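import Cfsg.Agent.Lib.Invol.DihedralClasses
import Cfsg.Agent.Lib.KnownSimple.POAut.OutBase
import Cfsg.Agent.Lib.Blocks.PrincipalSection

/-!
# The centralizer of the central involution of a dihedral Sylow 2-subgroup

* `exists_data_of_generators`: a model from two generators;
* `exists_retract`: `C(z)` retracts onto the Sylow subgroup with kernel of odd order;
* `rot_isConj`, `centralizer_rot`, `section_value`: rotations, their centralizers and their sections.
-/

set_option autoImplicit false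

noncomputable section

namespace CfsgLib.Blocks.DihBlock

open Cfsg CfsgLib.Invol CfsgLib.Invol.DihSylow DihedralGroup
open scoped Classical

variable {G : Type*} [Group G] [Finite G] {m q : ℕ} {P : Sylow 2 G} {ι : DihedralGroup m →* G}

/-- A model from generators. -/
theorem exists_data_of_generators {n : ℕ} (hn : 3 ≤ n) {σ τ : G} (hσ : σ ∈ (P : Subgroup G))
    (hτ : τ ∈ (P : Subgroup G)) (hσo : orderOf σ = 2 ^ (n - 1)) (hτo : orderOf τ = 2)
    (hrel : τ * σ * τ⁻¹ = σ⁻¹) (hgen : Subgroup.closure ({σ, τ} : Set G) = (P : Subgroup G)) :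
    ∃ ι : DihedralGroup (2 ^ (n - 1)) →* G, Data P ι (2 ^ (n - 3)) ∧ ι (r 1) = σ ∧ ι (sr 0) = τ := by
  have h4 : 2 ^ (n - 1) = 4 * 2 ^ (n - 3) := by
    rw [show n - 1 = 2 + (n - 3) by omega, pow_add]; rfl
  have : NeZero (2 ^ (n - 1)) := ⟨pow_ne_zero _ two_ne_zero⟩
  have hττ : τ * τ = 1 := by rw [← pow_two, ← hτo, pow_orderOf_eq_one]
  have hinv : τ⁻¹ = τ := inv_eq_of_mul_eq_one_right hττ
  obtain ⟨ι, hr, hs⟩ := CfsgLib.POAut.exists_dihedral_hom (n := 2 ^ (n - 1)) (r := σ) (s := τ)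
    (by rw [← hσo]; exact pow_orderOf_eq_one σ) hττ (by rw [← hinv] at hrel ⊢; simpa [hinv] using hrel)
  have hri : ∀ i : ZMod (2 ^ (n - 1)), ι (r i) = σ ^ i.val := fun i => by
    rw [← hr, ← map_pow, r_one_pow, ZMod.natCast_zmod_val]
  refine ⟨ι, ⟨?_, le_antisymm ?_ ?_, h4, pow_pos two_pos _⟩, hr, hs⟩
  · rw [← MonoidHom.ker_eq_bot_iff, Subgroup.eq_bot_iff_forall]
    rintro (i | i) hi
    · rw [MonoidHom.mem_ker, hri] at hi
      have hd := orderOf_dvd_of_pow_eq_one hi
      rw [hσo] at hd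
      rw [(ZMod.val_eq_zero i).mp (Nat.eq_zero_of_dvd_of_lt hd (ZMod.val_lt i)), r_zero]
    · exfalso
      rw [MonoidHom.mem_ker, show sr i = sr 0 * r i by rw [sr_mul_r, zero_add], map_mul, hs, hri] at hi
      have hτ' : τ = (σ ^ i.val)⁻¹ := eq_inv_of_mul_eq_one_left hi
      have hc : Commute τ σ := hτ' ▸ ((Commute.refl σ).pow_left _).inv_left
      rw [hc.eq, mul_inv_cancel_right, eq_inv_iff_mul_eq_one, ← pow_two] at hrel
      have h2 := orderOf_dvd_of_pow_eq_one hrel
      rw [hσo] at h2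
      have := Nat.le_of_dvd two_pos h2
      have : 2 ^ 2 ≤ 2 ^ (n - 1) := Nat.pow_le_pow_right two_pos (by omega)
      omega
  · rintro _ ⟨x, rfl⟩
    rcases x with i | i
    · rw [hri]; exact pow_mem hσ _
    · rw [show sr i = sr 0 * r i by rw [sr_mul_r, zero_add], map_mul, hs, hri]
      exact mul_mem hτ (pow_mem hσ _)
  · rw [← hgen, Subgroup.closure_le]
    intro x hx
    rcases hx with rfl | rfl
    · exact ⟨_, hr⟩
    · exact ⟨_, hs⟩

theorem neZero_of_data (hd : Data P ι q) : NeZero m := ⟨by rw [hd.hm]; have := hd.hq; omega⟩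

theorem card_dihedral_pow (hd : Data P ι q) : ∃ a, Nat.card (DihedralGroup m) = 2 ^ a := by
  haveI : Fact (Nat.Prime 2) := ⟨Nat.prime_two⟩
  obtain ⟨a, ha⟩ := IsPGroup.iff_card.1 P.2
  exact ⟨a, by rw [← ha, Nat.card_congr (MonoidHom.ofInjective hd.inj).toEquiv, hd.range]⟩

theorem exists_m_pow (hd : Data P ι q) : ∃ a, m = 2 ^ a := by
  obtain ⟨a, ha⟩ := card_dihedral_pow hd
  rw [DihedralGroup.nat_card] at ha
  obtain ⟨b, -, hb⟩ := (Nat.dvd_prime_pow Nat.prime_two).1 (ha ▸ dvd_mul_left m 2)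
  exact ⟨b, hb⟩

/-- The centralizer of the central involution. -/
abbrev CJ (ι : DihedralGroup m →* G) (q : ℕ) : Subgroup G := Subgroup.centralizer ({zz ι q} : Set G)

/-- The Sylow subgroup inside `CJ`. -/
def incl (hd : Data P ι q) : DihedralGroup m →* CJ ι q :=
  ι.codRestrict (CJ ι q) fun x => sylow_le_centralizer hd (mem_S hd x)

theorem coe_incl (hd : Data P ι q) (x : DihedralGroup m) : (incl hd x : G) = ι x := rfl

theorem data_CJ (hd : Data P ι q) : Data (P.subtype (sylow_le_centralizer hd)) (incl hd) q where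
  inj := fun a b h => hd.inj (congrArg Subtype.val h)
  range := by
    ext c
    rw [Sylow.coe_subtype, Subgroup.mem_subgroupOf, ← hd.range]
    exact ⟨fun ⟨y, hy⟩ => ⟨y, congrArg Subtype.val hy⟩, fun ⟨y, hy⟩ => ⟨y, Subtype.ext hy⟩⟩
  hm := hd.hm
  hq := hd.hq

/-- `CJ` retracts onto the Sylow subgroup with odd kernel. -/
structure Retract (hd : Data P ι q) (π : CJ ι q →* DihedralGroup m) : Prop where
  splits : ∀ d, π (incl hd d) = d
  odd_ker : Odd (Nat.card π.ker)

theorem exists_retract (hd : Data P ι q) : ∃ π, Retract hd π := by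
  haveI : Fact (Nat.Prime 2) := ⟨Nat.prime_two⟩
  have hd' := data_CJ hd
  have hcen : ∀ j, ¬ IsConj (zz (incl hd) q) (ss (incl hd) j) := fun j h => by
    obtain ⟨g, hg⟩ := isConj_iff.1 h
    have hc : g * zz (incl hd) q = zz (incl hd) q * g :=
      Subtype.ext (Subgroup.mem_centralizer_singleton_iff.1 g.2)
    rw [hc, mul_inv_cancel_right] at hg
    exact zz_ne_ss hd' j hg
  obtain ⟨N, hN, hNP⟩ := (CfsgLib.Transfer.hasNormalPComplement_iff_sylow
    (P.subtype (sylow_le_centralizer hd))).1 (hasNormalPComplement hd' (hcen 0) (hcen 1))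
  haveI := hN
  have hf : Function.Bijective ((QuotientGroup.mk' N).comp (incl hd)) := by
    refine ⟨(MonoidHom.ker_eq_bot_iff _).1 ((Subgroup.eq_bot_iff_forall _).2 fun x hx => ?_), fun y => ?_⟩
    · have h1 : incl hd x ∈ N ⊓ ((P.subtype (sylow_le_centralizer hd) : Sylow 2 (CJ ι q)) : Subgroup (CJ ι q)) :=
        ⟨(QuotientGroup.eq_one_iff _).1 hx, mem_S hd' x⟩
      rw [hNP.disjoint.eq_bot, Subgroup.mem_bot] at h1
      exact hd'.inj (h1.trans (map_one (incl hd)).symm)
    · obtain ⟨c, rfl⟩ := QuotientGroup.mk'_surjective N y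
      obtain ⟨⟨⟨k, hk⟩, ⟨s, hs⟩⟩, hks⟩ := hNP.2 c
      obtain ⟨x, rfl⟩ : s ∈ (incl hd).range := by rw [hd'.range]; exact hs
      refine ⟨x, ?_⟩
      rw [← hks]
      show QuotientGroup.mk' N (incl hd x) = QuotientGroup.mk' N (k * incl hd x)
      rw [map_mul, show QuotientGroup.mk' N k = 1 from (QuotientGroup.eq_one_iff k).2 hk, one_mul]
  let e := MulEquiv.ofBijective ((QuotientGroup.mk' N).comp (incl hd)) hf
  refine ⟨e.symm.toMonoidHom.comp (QuotientGroup.mk' N), fun d => e.symm_apply_apply d, ?_⟩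
  rw [show (e.symm.toMonoidHom.comp (QuotientGroup.mk' N)).ker = N by
    rw [← MonoidHom.comap_ker, MonoidHom.ker_eq_bot e.symm.toMonoidHom e.symm.injective,
      MonoidHom.comap_bot, QuotientGroup.ker_mk']]
  exact Nat.coprime_two_right.1 (CfsgLib.Transfer.coprime_card_of_isComplement' _ hNP)

variable {π : CJ ι q →* DihedralGroup m}

theorem Retract.orderOf_ker {hd : Data P ι q} (hπ : Retract hd π) {c : CJ ι q} (hc : π c = 1) :
    ¬ 2 ∣ orderOf c := fun h => by
  have h1 : orderOf c ∣ Nat.card π.ker := by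
    exact (Subgroup.orderOf_coe (⟨c, hc⟩ : π.ker)) ▸ orderOf_dvd_natCard _
  exact Nat.two_dvd_ne_zero.2 (Nat.odd_iff.1 hπ.odd_ker) (h.trans h1)

theorem Retract.two_dvd_of_ne {hd : Data P ι q} (hπ : Retract hd π) {c : CJ ι q} (hc : π c ≠ 1) :
    2 ∣ orderOf c := by
  haveI := neZero_of_data hd
  obtain ⟨a, ha⟩ := card_dihedral_pow hd
  obtain ⟨b, -, hb⟩ := (Nat.dvd_prime_pow Nat.prime_two).1 (ha ▸ orderOf_dvd_natCard (π c))
  refine dvd_trans ?_ (orderOf_map_dvd π c)
  rw [hb]
  refine dvd_pow_self 2 fun h0 => hc (orderOf_eq_one_iff.1 (by rw [hb, h0, pow_zero]))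

theorem Retract.map_eq_one_of_odd {hd : Data P ι q} (hπ : Retract hd π) {c : CJ ι q}
    (hc : ¬ 2 ∣ orderOf c) : π c = 1 := by
  by_contra h
  exact hc (hπ.two_dvd_of_ne h)

/-- Two-elements of `CJ` go into the Sylow subgroup by an element of the kernel. -/
theorem Retract.exists_conj_incl {hd : Data P ι q} (hπ : Retract hd π) {c : CJ ι q}
    (hc : IsPGroup 2 (Subgroup.zpowers c)) : ∃ k, π k = 1 ∧ k * c * k⁻¹ = incl hd (π c) := by
  haveI : Fact (Nat.Prime 2) := ⟨Nat.prime_two⟩
  obtain ⟨g, hg⟩ := CfsgLib.Transfer.exists_conj_mem_sylow (P.subtype (sylow_le_centralizer hd)) hc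
  have h1 := hg c (Subgroup.mem_zpowers c)
  rw [← (data_CJ hd).range] at h1
  obtain ⟨d, hd'⟩ := h1
  have hdv : d = π g * π c * (π g)⁻¹ := by rw [← map_inv, ← map_mul, ← map_mul, ← hd', hπ.splits]
  refine ⟨(incl hd (π g))⁻¹ * g, by rw [map_mul, map_inv, hπ.splits, inv_mul_cancel], ?_⟩
  calc (incl hd (π g))⁻¹ * g * c * ((incl hd (π g))⁻¹ * g)⁻¹
      = (incl hd (π g))⁻¹ * (g * c * g⁻¹) * incl hd (π g) := by group
    _ = incl hd ((π g)⁻¹ * d * π g) := by rw [← hd', map_mul, map_mul, map_inv]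
    _ = incl hd (π c) := by rw [hdv]; congr 1; group

theorem orderOf_half_pow (hd : Data P ι q) {l : ZMod m} (hl : l ≠ 0) :
    (r l : DihedralGroup m) ^ (orderOf (r l : DihedralGroup m) / 2) = r ((2 * q : ℕ) : ZMod m) ∧
      2 ∣ orderOf (r l : DihedralGroup m) := by
  haveI : NeZero m := ⟨by rw [hd.hm]; have := hd.hq; omega⟩
  have hlne : (r l : DihedralGroup m) ≠ 1 := fun h => hl (by rw [one_def, r.injEq] at h; exact h)
  have hev : 2 ∣ orderOf (r l : DihedralGroup m) := by
    by_contra hodd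
    have hdvd : orderOf (r l : DihedralGroup m) ∣ m := by
      refine orderOf_dvd_of_pow_eq_one ?_
      rw [r_pow, ZMod.natCast_self, mul_zero, r_zero]
    have : orderOf (r l : DihedralGroup m) = 1 := by
      obtain ⟨a, ha⟩ := exists_m_pow hd
      obtain ⟨b, -, hb⟩ := (Nat.dvd_prime_pow Nat.prime_two).1 (hdvd.trans (dvd_of_eq ha))
      rcases b with _ | b
      · exact hb.trans (pow_zero 2)
      · exact absurd (by rw [hb]; exact dvd_pow_self 2 (Nat.succ_ne_zero b)) hodd
    exact hlne (orderOf_eq_one_iff.1 this)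
  refine ⟨?_, hev⟩
  set o := orderOf (r l : DihedralGroup m) with ho
  have ho0 : 0 < o := orderOf_pos _
  have h2 : ((r l : DihedralGroup m) ^ (o / 2)) * (r l) ^ (o / 2) = 1 := by
    rw [← pow_add, show o / 2 + o / 2 = o by omega, ho, pow_orderOf_eq_one]
  have hne : (r l : DihedralGroup m) ^ (o / 2) ≠ 1 := fun h => by
    have := Nat.le_of_dvd (by omega) (orderOf_dvd_of_pow_eq_one h)
    omega
  rcases involution_cases hd.hm hd.hq h2 hne with h | ⟨i, h⟩
  · exact h
  · rw [r_pow] at h; exact absurd h (by simp)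

theorem zz_eq_pow (hd : Data P ι q) {l : ZMod m} (hl : l ≠ 0) :
    zz ι q = ι (r l) ^ (orderOf (ι (r l)) / 2) := by
  rw [orderOf_injective ι hd.inj, ← map_pow, (orderOf_half_pow hd hl).1]
  rfl

theorem centralizer_rot_le (hd : Data P ι q) {l : ZMod m} (hl : l ≠ 0) :
    Subgroup.centralizer ({ι (r l)} : Set G) ≤ CJ ι q := fun x hx => by
  rw [Subgroup.mem_centralizer_singleton_iff] at hx ⊢
  rw [zz_eq_pow hd hl]
  exact (Commute.pow_right hx _).eq

/-- Fusion of rotations. -/
theorem rot_isConj (hd : Data P ι q) {l l' : ZMod m} (hl : l ≠ 0) (h : IsConj (ι (r l)) (ι (r l'))) :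
    l' = l ∨ l' = -l := by
  obtain ⟨π, hπ⟩ := exists_retract hd
  obtain ⟨g, hg⟩ := isConj_iff.1 h
  have ho : orderOf (ι (r l')) = orderOf (ι (r l)) := by rw [← hg, CfsgLib.Invol.orderOf_conj_eq]
  have hl' : l' ≠ 0 := fun h0 => hl (by
    rw [h0, r_zero, map_one, orderOf_one, eq_comm, orderOf_eq_one_iff, ← map_one ι] at ho
    have := hd.inj ho
    rw [one_def, r.injEq] at this
    exact this)
  have hgC : g ∈ CJ ι q := by
    rw [Subgroup.mem_centralizer_singleton_iff]
    have h2 : g * zz ι q * g⁻¹ = zz ι q := by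
      conv_lhs => rw [zz_eq_pow hd hl, ← conj_pow, hg, ← ho]
      exact (zz_eq_pow hd hl').symm
    exact mul_inv_eq_iff_eq_mul.1 h2
  have h3 : (⟨g, hgC⟩ : CJ ι q) * incl hd (r l) * (⟨g, hgC⟩ : CJ ι q)⁻¹ = incl hd (r l') := Subtype.ext hg
  have h4 := congrArg π h3
  rw [map_mul, map_mul, map_inv, hπ.splits, hπ.splits] at h4
  rcases hπg : π ⟨g, hgC⟩ with i | i
  · rw [hπg, inv_r, r_mul_r, r_mul_r, r.injEq] at h4
    exact Or.inl (by rw [← h4]; ring)
  · rw [hπg, inv_sr, sr_mul_r, sr_mul_sr, r.injEq] at h4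
    exact Or.inr (by rw [← h4]; ring)

/-- The centralizer of a rotation: a normal complement, and the 2-part of the order. -/
theorem centralizer_rot (hd : Data P ι q) {l : ZMod m} (hl : l ≠ 0) :
    (∃ k, (pPrimeCore 2 (Subgroup.centralizer ({ι (r l)} : Set G))).index = 2 ^ k) ∧
      2 ^ (Nat.card (Subgroup.centralizer ({ι (r l)} : Set G))).factorization 2 =
        if l = ((2 * q : ℕ) : ZMod m) then 2 * m else m := by
  haveI : Fact (Nat.Prime 2) := ⟨Nat.prime_two⟩
  haveI := neZero_of_data hd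
  obtain ⟨π, hπ⟩ := exists_retract hd
  set C := Subgroup.centralizer ({ι (r l)} : Set G) with hC
  let f : C →* DihedralGroup m := π.comp (Subgroup.inclusion (centralizer_rot_le hd hl))
  have hker : (Nat.card f.ker).Coprime 2 := by
    refine Nat.coprime_two_right.2 (Odd.of_dvd_nat hπ.odd_ker ?_)
    exact Subgroup.card_dvd_of_injective
      (((Subgroup.inclusion (centralizer_rot_le hd hl)).comp f.ker.subtype).codRestrict π.ker fun x => x.2)
      fun x y h => Subtype.ext (Subgroup.inclusion_injective (centralizer_rot_le hd hl) (congrArg (fun z : π.ker => (z : CJ ι q)) h))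
  have hrange : f.range = Subgroup.centralizer ({r l} : Set (DihedralGroup m)) := by
    ext d
    rw [Subgroup.mem_centralizer_singleton_iff]
    constructor
    · rintro ⟨c, rfl⟩
      have h1 : Subgroup.inclusion (centralizer_rot_le hd hl) c * incl hd (r l) =
          incl hd (r l) * Subgroup.inclusion (centralizer_rot_le hd hl) c :=
        Subtype.ext (Subgroup.mem_centralizer_singleton_iff.1 c.2)
      have h2 := congrArg π h1
      rw [map_mul, map_mul, hπ.splits] at h2
      exact h2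
    · intro h
      refine ⟨⟨ι d, Subgroup.mem_centralizer_singleton_iff.2 (by rw [← map_mul, ← map_mul, h])⟩, ?_⟩
      exact hπ.splits d
  obtain ⟨a, ha⟩ := card_dihedral_pow hd
  obtain ⟨b, -, hb⟩ := (Nat.dvd_prime_pow Nat.prime_two).1 (ha ▸ Subgroup.card_subgroup_dvd_card f.range)
  have hidx : f.ker.index = 2 ^ b := by rw [Subgroup.index_ker, hb]
  refine ⟨?_, ?_⟩
  · obtain ⟨j, -, hj⟩ := (Nat.dvd_prime_pow Nat.prime_two).1
      (hidx ▸ Subgroup.index_dvd_of_le (CfsgLib.Cores.le_pPrimeCore (p := 2) hker))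
    exact ⟨j, hj⟩
  · have hcard : (Nat.card C).factorization 2 = b := by
      rw [← f.ker.card_mul_index, hidx, Nat.factorization_mul Nat.card_pos.ne' (pow_ne_zero _ two_ne_zero),
        Finsupp.add_apply, Nat.factorization_eq_zero_of_not_dvd ((Nat.prime_two.coprime_iff_not_dvd).1 hker.symm),
        Nat.prime_two.factorization_pow, Finsupp.single_eq_same, zero_add]
    rw [hcard, ← hb, hrange]
    split_ifs with h
    · rw [h, Subgroup.centralizer_eq_top_iff_subset.2, Subgroup.card_top, DihedralGroup.nat_card]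
      rintro _ rfl
      exact Subgroup.mem_center_iff.2 fun x => (DihSylow.half_central hd.hm x).symm
    · have h2l : 2 * l ≠ 0 := fun h0 => by
        rcases (two_mul_eq_zero_iff hd.hm hd.hq).1 h0 with h' | h'
        · exact hl h'
        · exact h h'
      let rotHom : Multiplicative (ZMod m) →* DihedralGroup m :=
        MonoidHom.mk' (fun i => r i.toAdd) fun i j => by rw [toAdd_mul, r_mul_r]
      have hrot : Subgroup.centralizer ({r l} : Set (DihedralGroup m)) = rotHom.range := by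
        ext d
        rw [Subgroup.mem_centralizer_singleton_iff]
        rcases d with i | i
        · exact ⟨fun _ => ⟨Multiplicative.ofAdd i, rfl⟩, fun _ => by rw [r_mul_r, r_mul_r, add_comm]⟩
        · constructor
          · intro h'
            rw [sr_mul_r, r_mul_sr, sr.injEq] at h'
            exact absurd (by linear_combination h') h2l
          · rintro ⟨j, hj⟩
            exact absurd hj (by simp [rotHom])
      rw [hrot, ← Nat.card_congr (MonoidHom.ofInjective (f := rotHom) fun i j hij => by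
        simpa [rotHom] using hij).toEquiv, Nat.card_congr Multiplicative.toAdd, Nat.card_zmod]

variable {M : Ideal AlgInt} [M.IsMaximal]

/-- On the section of a rotation the characters of the principal block are constant. -/
theorem section_value [Fintype G] (hM : IsPModular 2 M) {hd : Data P ι q} (hπ : Retract hd π)
    {χ : IrrCharacter G} (hχ : χ ∈ principalBlock M G) {c : CJ ι q} {l : ZMod m} (hl : l ≠ 0)
    (hc : π c = r l) : (χ : G → ℂ) c = (χ : G → ℂ) (ι (r l)) := by
  haveI : Fact (Nat.Prime 2) := ⟨Nat.prime_two⟩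
  obtain ⟨z, y, hzy, hcomm, ⟨k, hk⟩, hy⟩ := exists_isPPart (p := 2) c
  have hπy : π y = 1 := hπ.map_eq_one_of_odd hy
  have hπz : π z = r l := by rw [← hc, ← hzy, map_mul, hπy, mul_one]
  obtain ⟨w, hw1, hw⟩ := hπ.exists_conj_incl (c := z) (IsPGroup.of_card (n := k) (by rw [Nat.card_zpowers, hk]))
  rw [hπz] at hw
  have hcom : Commute (incl hd (r l)) (w * y * w⁻¹) := by
    rw [← hw]; exact hcomm.map (MulAut.conj w).toMonoidHom
  let y' : Subgroup.centralizer ({ι (r l)} : Set G) := ⟨((w * y * w⁻¹ : CJ ι q) : G),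
    Subgroup.mem_centralizer_singleton_iff.2 (congrArg Subtype.val hcom.eq).symm⟩
  let _ := Fintype.ofFinite (Subgroup.centralizer ({ι (r l)} : Set G))
  have hreg : ¬ 2 ∣ orderOf y' := by
    rw [← Subgroup.orderOf_coe]
    show ¬ 2 ∣ orderOf ((w * y * w⁻¹ : CJ ι q) : G)
    rw [Subgroup.orderOf_coe, CfsgLib.Invol.orderOf_conj_eq]
    exact hy
  have hpow : ∃ j, orderOf (ι (r l)) = 2 ^ j := ⟨k, by
    rw [← coe_incl hd, Subgroup.orderOf_coe, ← hw, CfsgLib.Invol.orderOf_conj_eq, hk]⟩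
  rw [← principal_section_const hM hpow (centralizer_rot hd hl).1 hχ hreg,
    ← CfsgLib.Char.isClassFunction_of_isIrr χ.2 (c : G) (w : G)]
  refine congrArg (χ : G → ℂ) ?_
  have e : w * c * w⁻¹ = incl hd (r l) * (w * y * w⁻¹) := by rw [← hzy, ← hw]; group
  exact congrArg Subtype.val e

end CfsgLib.Blocks.DihBlock
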