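import Cfsg.Agent.Lib.Blocks.DihBlock.Rows
import Cfsg.Agent.Lib.Blocks.KleinOrder

/-!
# The order formula for a dihedral Sylow 2-subgroup and one class of involutions

* `psi_half`, `sum_psi_par`, `card_par`: the two parity classes of `ZMod m`;
* `reflFib`: the involutions of `CJ` over a reflection; their count and its relation to centralizers;
* `order_identity`: the structure sum of the principal block;
* `order_formula`: the formula.
-/

set_option autoImplicit false

noncomputable section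

open scoped Classical ComplexConjugate

namespace CfsgLib.Blocks.DihBlock

open Cfsg CfsgLib.Invol CfsgLib.Invol.DihSylow DihedralGroup CfsgLib.Char

variable {G : Type*} [Group G] [Fintype G] {m q : ℕ} [NeZero m] {P : Sylow 2 G} {ι : DihedralGroup m →* G}
  {ψ : AddChar (ZMod m) ℂ}

theorem psi_half (hm : m = 4 * q) (hq : 0 < q) (hψ : ψ.IsPrimitive) :
    ψ ((2 * q : ℕ) : ZMod m) = -1 := by
  have h2 : ψ ((2 * q : ℕ) : ZMod m) * ψ ((2 * q : ℕ) : ZMod m) = 1 := by
    rw [← AddChar.map_add_eq_mul, ← two_mul, (two_mul_eq_zero_iff hm hq).2 (Or.inr rfl),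
      AddChar.map_zero_eq_one]
  rcases mul_self_eq_one_iff.mp h2 with h | h
  · exact absurd ((hψ.zmod_char_eq_one_iff m _).mp h) (half_ne_zero hm hq)
  · exact h

omit [Group G] [Fintype G] in
theorem two_ne_zero_zmod (hm : m = 4 * q) (hq : 0 < q) : (2 : ZMod m) ≠ 0 := fun h => by
  have h' : ((2 : ℕ) : ZMod m) = 0 := by exact_mod_cast h
  have := Nat.le_of_dvd two_pos ((ZMod.natCast_eq_zero_iff _ _).1 h')
  omega

omit [Group G] [Fintype G] in
theorem sum_psi_par (hm : m = 4 * q) (hq : 0 < q) (hψ : ψ.IsPrimitive) (e : ZMod 2) :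
    ∑ i : ZMod m, (if par hm i = e then ψ i else 0) = 0 := by
  have h2 : ψ 2 ≠ 1 := fun h => two_ne_zero_zmod hm hq ((hψ.zmod_char_eq_one_iff m _).mp h)
  refine (mul_left_eq_self₀.mp ?_).resolve_left h2
  rw [Finset.mul_sum]
  refine Fintype.sum_equiv (Equiv.addLeft 2) _ _ fun i => ?_
  have hp : par hm (2 : ZMod m) = 0 := by rw [map_ofNat]; rfl
  simp only [Equiv.coe_addLeft, map_add, hp, zero_add, mul_ite, mul_zero, AddChar.map_add_eq_mul]

omit [Group G] [Fintype G] in
theorem card_par (hm : m = 4 * q) (e : ZMod 2) :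
    (Finset.univ.filter fun i : ZMod m => par hm i = e).card = 2 * q := by
  have hflip : ∀ e : ZMod 2, (Finset.univ.filter fun i : ZMod m => par hm i = e).card =
      (Finset.univ.filter fun i : ZMod m => par hm i = e + 1).card := fun e =>
    Finset.card_equiv (Equiv.addRight 1) fun i => by simp
  have hne : ∀ a : ZMod 2, (¬ a = e) ↔ a = e + 1 := by revert e; decide
  have hsum := Finset.card_filter_add_card_filter_not
    (s := (Finset.univ : Finset (ZMod m))) (fun i => par hm i = e)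
  simp only [hne] at hsum
  rw [← hflip, Finset.card_univ, ZMod.card] at hsum
  omega

/-- Involutions of `CJ` over a reflection. -/
def reflFib (ι : DihedralGroup m →* G) (q : ℕ) (π : CJ ι q →* DihedralGroup m) (i : ZMod m) : Finset (CJ ι q) :=
  Finset.univ.filter fun x => orderOf x = 2 ∧ π x = sr i

variable {π : CJ ι q →* DihedralGroup m}

theorem mem_reflFib {i : ZMod m} {x : CJ ι q} : x ∈ reflFib ι q π i ↔ orderOf x = 2 ∧ π x = sr i := by
  simp [reflFib]

theorem reflFib_card_par {hd : Data P ι q} (hπ : Retract hd π) {i j : ZMod m}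
    (h : par hd.hm i = par hd.hm j) : (reflFib ι q π i).card = (reflFib ι q π j).card := by
  obtain ⟨k, hk⟩ := isConj_sr hd.hm hd.hq h
  refine Finset.card_equiv (MulAut.conj (incl hd (r k))).toEquiv fun x => ?_
  simp only [mem_reflFib, MulEquiv.toEquiv_eq_coe, EquivLike.coe_coe, MulEquiv.orderOf_eq]
  rw [MulAut.conj_apply, map_mul, map_mul, map_inv, hπ.splits]
  refine and_congr_right fun _ => ⟨fun hx => by rw [hx, hk], fun hx => ?_⟩
  rw [← hk] at hx
  exact mul_left_cancel (mul_right_cancel hx)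

theorem involution_over {hd : Data P ι q} (hπ : Retract hd π) {x : CJ ι q} (hx : orderOf x = 2) :
    x = incl hd (r ((2 * q : ℕ) : ZMod m)) ∨
      ∃ i, π x = sr i ∧ ∃ k, π k = 1 ∧ k * x * k⁻¹ = incl hd (sr i) := by
  have : Fact (Nat.Prime 2) := ⟨Nat.prime_two⟩
  obtain ⟨k, hk1, hk⟩ := hπ.exists_conj_incl (c := x)
    (IsPGroup.of_card (n := 1) (by rw [Nat.card_zpowers, hx, pow_one]))
  have h1 : π x ≠ 1 := fun h => hπ.orderOf_ker h (by rw [hx])
  have h2 : π x * π x = 1 := by rw [← map_mul, ← pow_two, ← hx, pow_orderOf_eq_one, map_one]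
  rcases involution_cases hd.hm hd.hq h2 h1 with e | ⟨i, e⟩
  · refine Or.inl ?_
    rw [e] at hk
    have hc : k * incl hd (r ((2 * q : ℕ) : ZMod m)) = incl hd (r ((2 * q : ℕ) : ZMod m)) * k :=
      Subtype.ext (Subgroup.mem_centralizer_singleton_iff.1 k.2)
    rw [mul_inv_eq_iff_eq_mul, ← hc] at hk
    exact mul_left_cancel hk
  · exact Or.inr ⟨i, e, k, hk1, by rw [← e]; exact hk⟩

theorem card_reflFib_centralizer {hd : Data P ι q} (hπ : Retract hd π) (j : ZMod m) :
    2 * q * (reflFib ι q π j).card * Nat.card (Subgroup.centralizer ({zz ι q, ι (sr j)} : Set G)) =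
      Nat.card (CJ ι q) := by
  rw [← card_isConj_mul_card_centralizer (incl hd (sr j))]
  congr 1
  · have hset : (Finset.univ.filter fun x : CJ ι q => IsConj (incl hd (sr j)) x) =
        (Finset.univ.filter fun i : ZMod m => par hd.hm i = par hd.hm j).biUnion (reflFib ι q π) := by
      ext x
      simp only [Finset.mem_filter, Finset.mem_univ, true_and, Finset.mem_biUnion, mem_reflFib]
      constructor
      · intro h
        obtain ⟨g, hg⟩ := isConj_iff.1 h
        obtain ⟨l, hl⟩ := conj_sr (π g) j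
        refine ⟨l, ?_, by rw [← hg, CfsgLib.Invol.orderOf_conj_eq, orderOf_injective _ (data_CJ hd).inj,
          orderOf_sr], by rw [← hg, map_mul, map_mul, map_inv, hπ.splits, hl]⟩
        rcases hg' : π g with k | k <;> rw [hg'] at hl
        · rw [conj_r_sr, sr.injEq] at hl
          rw [← hl, map_sub, map_mul, show par hd.hm (2 : ZMod m) = 0 by rw [map_ofNat]; rfl, zero_mul, sub_zero]
        · rw [inv_sr, sr_mul_sr, r_mul_sr, sr.injEq] at hl
          rw [← hl, map_sub, map_sub]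
          generalize par hd.hm k = a
          generalize par hd.hm j = b
          revert a b
          decide
      · rintro ⟨i, hi, hx, hxi⟩
        obtain ⟨k, hk⟩ := isConj_sr hd.hm hd.hq hi.symm
        rcases involution_over hπ hx with e | ⟨i', e, k', -, hk'⟩
        · rw [e, hπ.splits] at hxi; exact absurd hxi (by simp)
        · rw [hxi, sr.injEq] at e
          subst e
          have h1 : IsConj (incl hd (sr j)) (incl hd (sr i)) :=
            isConj_iff.2 ⟨incl hd (r k), by rw [← map_inv, ← map_mul, ← map_mul, hk]⟩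
          exact h1.trans (isConj_iff.2 ⟨k', hk'⟩).symm
    rw [Nat.card_eq_fintype_card, Fintype.card_subtype, hset, Finset.card_biUnion,
      Finset.sum_congr rfl fun i hi => reflFib_card_par hπ (Finset.mem_filter.1 hi).2, Finset.sum_const,
      card_par, smul_eq_mul]
    intro a _ b _ hab
    rw [Function.onFun, Finset.disjoint_left]
    intro x hxa hxb
    exact hab (sr.inj ((mem_reflFib.1 hxa).2.symm.trans (mem_reflFib.1 hxb).2))
  · refine Nat.card_congr
      { toFun := fun x => ⟨⟨(x : G), ?_⟩, ?_⟩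
        invFun := fun x => ⟨((x : CJ ι q) : G), ?_⟩
        left_inv := fun x => rfl
        right_inv := fun x => rfl }
    · exact Subgroup.centralizer_le (Set.singleton_subset_iff.2 (Set.mem_insert _ _)) x.2
    · exact Subgroup.mem_centralizer_singleton_iff.2 (Subtype.ext
        (Subgroup.mem_centralizer_iff.1 x.2 _ (Set.mem_insert_of_mem _ rfl)).symm)
    · refine Subgroup.mem_centralizer_iff.2 ?_
      rintro y (rfl | rfl)
      · exact (Subgroup.mem_centralizer_singleton_iff.1 (x : CJ ι q).2).symm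
      · exact congrArg Subtype.val (Subgroup.mem_centralizer_singleton_iff.1 x.2).symm

/-- A product of two involutions of `CJ` with non-trivial rotation part has the involution `zz`. -/
theorem invol_rot {hd : Data P ι q} (hπ : Retract hd π) {c : CJ ι q} {l : ZMod m} (hl : l ≠ 0)
    (hc : π c = r l) : 2 ∣ orderOf (c : G) ∧ (c : G) ^ (orderOf (c : G) / 2) = zz ι q := by
  have hne : π c ≠ 1 := by
    rw [hc, one_def]; exact fun h => hl (r.inj h)
  have hev : 2 ∣ orderOf c := hπ.two_dvd_of_ne hne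
  rw [Subgroup.orderOf_coe]
  refine ⟨hev, ?_⟩
  have ho0 := orderOf_pos c
  have hu : orderOf (c ^ (orderOf c / 2)) = 2 := by
    rw [orderOf_pow_of_dvd (by omega) (Nat.div_dvd_of_dvd hev), Nat.div_div_self hev (by omega)]
  rcases involution_over hπ hu with e | ⟨i, e, -⟩
  · exact congrArg Subtype.val e
  · rw [map_pow, hc, r_pow] at e
    exact absurd e (by simp)

/-- A sum over `G` of a function of the conjugate of `x`. -/
theorem sum_conjugates_complex (x : G) (f : G → ℂ) :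
    ∑ g : G, f (g * x * g⁻¹) = (Nat.card (Subgroup.centralizer ({x} : Set G)) : ℂ) *
      ∑ a ∈ Finset.univ.image (fun g : G => g * x * g⁻¹), f a := by
  rw [← Finset.sum_fiberwise_of_maps_to (g := fun g : G => g * x * g⁻¹)
    (t := Finset.univ.image (fun g : G => g * x * g⁻¹))
    (fun g _ => Finset.mem_image_of_mem _ (Finset.mem_univ g)), Finset.mul_sum]
  refine Finset.sum_congr rfl fun a ha => ?_
  have h := sum_conjugates x (fun b => if b = a then 1 else 0)
  rw [Finset.sum_ite_eq', if_pos ha, mul_one, Finset.sum_boole, Nat.cast_id] at h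
  rw [Finset.sum_congr rfl fun g hg => by rw [(Finset.mem_filter.mp hg).2], Finset.sum_const, h,
    nsmul_eq_mul]

/-- The reflection pairs: their total weight. -/
theorem sum_pairs_weight (hm : m = 4 * q) (hq : 0 < q) (hψ : ψ.IsPrimitive) (A : ZMod m → ℕ)
    (hA : ∀ i j, par hm i = par hm j → A i = A j) :
    ∑ i : ZMod m, ∑ j : ZMod m, (A i : ℂ) * (A j : ℂ) * (ψ (j - i) + ψ (-(j - i)) - 2) =
      -2 * (((2 * q : ℕ) : ℂ) * ((A 0 : ℂ) + (A (-1) : ℂ))) ^ 2 := by
  have hval : ∀ i, (A i : ℂ) = (if par hm i = 0 then (A 0 : ℂ) else 0) +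
      (if par hm i = 1 then (A (-1) : ℂ) else 0) := fun i => by
    have h01 : (0 : ZMod 2) ≠ 1 := by decide
    rcases par_zero_or_one hm i with h | h
    · rw [hA i 0 h]; rw [map_zero] at h; rw [h, if_pos rfl, if_neg h01, add_zero]
    · rw [hA i (-1) (by rw [h, map_neg, map_one]; decide)]
      rw [map_one] at h
      rw [h, if_neg h01.symm, if_pos rfl, zero_add]
  have hzero : ∑ i : ZMod m, (A i : ℂ) * ψ i = 0 := by
    rw [Finset.sum_congr rfl fun i _ => congrArg (· * ψ i) (hval i)]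
    simp only [add_mul, ite_mul, zero_mul, Finset.sum_add_distrib]
    have key : ∀ (c : ℂ) (e : ZMod 2), ∑ i : ZMod m, (if par hm i = e then c * ψ i else 0) = 0 := by
      intro c e
      rw [Finset.sum_congr rfl fun i _ => show (if par hm i = e then c * ψ i else 0) =
        c * (if par hm i = e then ψ i else 0) by rw [mul_ite, mul_zero], ← Finset.mul_sum,
        sum_psi_par hm hq hψ, mul_zero]
    rw [key, key, add_zero]
  have htot : ∑ i : ZMod m, (A i : ℂ) = ((2 * q : ℕ) : ℂ) * ((A 0 : ℂ) + (A (-1) : ℂ)) := by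
    rw [Finset.sum_congr rfl fun i _ => hval i]
    simp only [Finset.sum_add_distrib, ← Finset.sum_filter, Finset.sum_const, card_par, nsmul_eq_mul]
    ring
  have hexp : ∀ i j, (A i : ℂ) * (A j : ℂ) * (ψ (j - i) + ψ (-(j - i)) - 2) =
      ((A i : ℂ) * ψ (-i)) * ((A j : ℂ) * ψ j) + ((A i : ℂ) * ψ i) * ((A j : ℂ) * ψ (-j))
        - 2 * ((A i : ℂ) * (A j : ℂ)) := fun i j => by
    rw [show j - i = j + -i by ring, show -(j + -i) = i + -j by ring, AddChar.map_add_eq_mul,
      AddChar.map_add_eq_mul]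
    ring
  simp only [hexp, Finset.sum_add_distrib, Finset.sum_sub_distrib, ← Finset.mul_sum, ← Finset.sum_mul,
    hzero, htot]
  ring

variable {M : Ideal AlgInt} [M.IsMaximal]

/-- **The structure sum**: the identity behind the order formula. -/
theorem order_identity (hM : IsPModular 2 M) (hd : Data P ι q) (hψ : ψ.IsPrimitive)
    (hall : ∀ t : G, orderOf t = 2 → IsConj (zz ι q) t) {π : CJ ι q →* DihedralGroup m}
    (hπ : Retract hd π) (a f : IrrCharacter G) (s : ℤ) (hs : s = 1 ∨ s = -1)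
    (hB : (irrOne : IrrCharacter G) ∈ principalBlock M G ∧ a ∈ principalBlock M G ∧ f ∈ principalBlock M G)
    (hval : ∀ l : ZMod m, l ≠ 0 → (a : G → ℂ) (ι (r l)) = -(s : ℂ) ∧
      (f : G → ℂ) (ι (r l)) = -(s : ℂ) * (ψ l + ψ (-l)))
    (hodd : ∀ ρ : G, ¬ 2 ∣ orderOf ρ → -1 + (s : ℂ) * (a : G → ℂ) ρ - (s : ℂ) * (f : G → ℂ) ρ = 0) :
    (Nat.card G : ℂ) * ((a : G → ℂ) 1 + (s : ℂ)) ^ 2 =
      2 * (a : G → ℂ) 1 * ((a : G → ℂ) 1 - (s : ℂ)) * (Nat.card (CJ ι q) : ℂ) *
        (((2 * q : ℕ) : ℂ) * (((reflFib ι q π 0).card : ℂ) + ((reflFib ι q π (-1)).card : ℂ))) ^ 2 := by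
  have hs2 : (s : ℂ) * (s : ℂ) = 1 := by rcases hs with rfl | rfl <;> norm_num
  set J := zz ι q with hJ
  let Θ : G → ℂ := fun x => -1 + (s : ℂ) * (a : G → ℂ) x - (s : ℂ) * (f : G → ℂ) x
  have hone : ∀ x : G, ((irrOne : IrrCharacter G) : G → ℂ) x = 1 := fun _ => rfl
  have hΘcls : ∀ g x : G, Θ (g * x * g⁻¹) = Θ x := fun g x => by
    simp only [Θ, isClassFunction_of_isIrr a.2 x g, isClassFunction_of_isIrr f.2 x g]
  have hΘrot : ∀ (c : CJ ι q) (l : ZMod m), l ≠ 0 → π c = r l → Θ c = ψ l + ψ (-l) - 2 := fun c l hl hc => by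
    simp only [Θ, section_value hM hπ hB.2.1 hl hc, section_value hM hπ hB.2.2 hl hc, (hval l hl).1, (hval l hl).2]
    linear_combination (-1 + ψ l + ψ (-l)) * hs2
  -- the two sides
  set I := Finset.univ.image (fun g : G => g * J * g⁻¹) with hI
  have hImem : ∀ x, x ∈ I ↔ orderOf x = 2 := fun x => by
    rw [hI, Finset.mem_image]
    constructor
    · rintro ⟨g, -, rfl⟩; rw [CfsgLib.Invol.orderOf_conj_eq, hJ, orderOf_zz hd]
    · intro hx
      obtain ⟨g, hg⟩ := isConj_iff.1 (hall x hx)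
      exact ⟨g, Finset.mem_univ _, hg⟩
  have hside : ∀ χ : IrrCharacter G, ∑ g : G, ∑ w : G, (χ : G → ℂ) (g * J * g⁻¹ * (w * J * w⁻¹)) =
      (Nat.card G : ℂ) ^ 2 * ((χ : G → ℂ) J) ^ 2 / (χ : G → ℂ) 1 := fun χ => by
    rw [Finset.sum_comm, eq_div_iff (irr_one_ne_zero χ.2), Finset.sum_mul,
      Finset.sum_congr rfl fun w _ => (mul_comm _ _).trans (CfsgLib.CharBlocks.sum_conj_mul χ.2 J _)]
    simp only [isClassFunction_of_isIrr χ.2 J, Finset.sum_const, Finset.card_univ, nsmul_eq_mul,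
      ← Nat.card_eq_fintype_card]
    ring
  have hJval : (a : G → ℂ) J = -(s : ℂ) ∧ (f : G → ℂ) J = 2 * (s : ℂ) := by
    have hh := half_ne_zero hd.hm hd.hq
    refine ⟨(hval _ hh).1, ?_⟩
    rw [hJ, zz, (hval _ hh).2, neg_half hd.hm, psi_half hd.hm hd.hq hψ]
    ring
  have hL : ∑ g : G, ∑ w : G, Θ (g * J * g⁻¹ * (w * J * w⁻¹)) =
      (Nat.card G : ℂ) ^ 2 * (-1 + (s : ℂ) / (a : G → ℂ) 1 - 4 * (s : ℂ) / (f : G → ℂ) 1) := by
    simp only [Θ, Finset.sum_sub_distrib, Finset.sum_add_distrib, ← Finset.mul_sum, hside,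
      Finset.sum_const, Finset.card_univ, nsmul_eq_mul, ← Nat.card_eq_fintype_card, hJval.1, hJval.2]
    linear_combination ((Nat.card G : ℂ) ^ 2 * (s : ℂ) / (a : G → ℂ) 1 - 4 * (Nat.card G : ℂ) ^ 2 * (s : ℂ) / (f : G → ℂ) 1) * hs2
  -- grouping the pairs by their involution
  let T : G → ℂ := fun z => ∑ x ∈ I, ∑ y ∈ I,
    if 2 ∣ orderOf (x * y) ∧ (x * y) ^ (orderOf (x * y) / 2) = z then Θ (x * y) else 0
  have hgroup : ∑ x ∈ I, ∑ y ∈ I, Θ (x * y) = ∑ z ∈ I, T z := by
    simp only [T]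
    rw [eq_comm, Finset.sum_comm]
    refine Finset.sum_congr rfl fun x _ => ?_
    rw [Finset.sum_comm]
    refine Finset.sum_congr rfl fun y _ => ?_
    by_cases he : 2 ∣ orderOf (x * y)
    · have ho := orderOf_pos (x * y)
      have hz : (x * y) ^ (orderOf (x * y) / 2) ∈ I := by
        rw [hImem, orderOf_pow_of_dvd (by omega) (Nat.div_dvd_of_dvd he), Nat.div_div_self he (by omega)]
      simp only [he, true_and]
      rw [Finset.sum_ite_eq, if_pos hz]
    · simp only [he, false_and, if_false, Finset.sum_const_zero]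
      exact (hodd _ he).symm
  have hTconj : ∀ g z : G, T (g * z * g⁻¹) = T z := fun g z => by
    have hIm : ∀ x, x ∈ I ↔ MulAut.conj g x ∈ I := fun x => by rw [hImem, hImem, MulEquiv.orderOf_eq]
    symm
    refine Finset.sum_equiv (MulAut.conj g).toEquiv hIm fun x _ => ?_
    refine Finset.sum_equiv (MulAut.conj g).toEquiv hIm fun y _ => ?_
    have e : g * x * g⁻¹ * (g * y * g⁻¹) = g * (x * y) * g⁻¹ := by group
    refine if_congr ?_ ?_ rfl
    · show _ ↔ 2 ∣ orderOf (g * x * g⁻¹ * (g * y * g⁻¹)) ∧ _ ^ (orderOf (g * x * g⁻¹ * (g * y * g⁻¹)) / 2) = _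
      rw [e, CfsgLib.Invol.orderOf_conj_eq]
      refine and_congr_right fun _ => ?_
      show _ ↔ (g * x * g⁻¹ * (g * y * g⁻¹)) ^ (orderOf (x * y) / 2) = _
      rw [e, conj_pow]
      exact ⟨fun h => by rw [h], fun h => mul_left_cancel (mul_right_cancel h)⟩
    · show _ = Θ (g * x * g⁻¹ * (g * y * g⁻¹))
      rw [e, hΘcls]
  have hTJ : T J = ∑ i : ZMod m, ∑ j : ZMod m,
      ((reflFib ι q π i).card : ℂ) * ((reflFib ι q π j).card : ℂ) * (ψ (j - i) + ψ (-(j - i)) - 2) := by
    let R : Finset G := Finset.univ.biUnion fun i => (reflFib ι q π i).map ⟨Subtype.val, Subtype.val_injective⟩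
    have hR : ∀ x, x ∈ R ↔ ∃ (hx : x ∈ CJ ι q) (i : ZMod m), orderOf x = 2 ∧ π ⟨x, hx⟩ = sr i := fun x => by
      simp only [R, Finset.mem_biUnion, Finset.mem_univ, true_and, Finset.mem_map, mem_reflFib,
        Function.Embedding.coeFn_mk]
      constructor
      · rintro ⟨i, c, ⟨hc, hci⟩, rfl⟩
        exact ⟨c.2, i, by rw [Subgroup.orderOf_coe, hc], hci⟩
      · rintro ⟨hx, i, h2, hi⟩
        exact ⟨i, ⟨x, hx⟩, ⟨by rw [Subgroup.orderOf_mk, h2], hi⟩, rfl⟩
    have hRI : R ⊆ I := fun x hx => by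
      obtain ⟨-, -, h, -⟩ := (hR x).1 hx
      exact (hImem x).2 h
    have hkey : ∀ x ∈ I, ∀ y ∈ I, 2 ∣ orderOf (x * y) → (x * y) ^ (orderOf (x * y) / 2) = J → x ∈ R ∧ y ∈ R := by
      intro x hx y hy he hz
      rw [hImem] at hx hy
      have hxx : x * x = 1 := by rw [← pow_two, ← hx, pow_orderOf_eq_one]
      have hyy : y * y = 1 := by rw [← pow_two, ← hy, pow_orderOf_eq_one]
      have hxinv : x⁻¹ = x := inv_eq_of_mul_eq_one_right hxx
      have hyinv : y⁻¹ = y := inv_eq_of_mul_eq_one_right hyy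
      have hJinv : J⁻¹ = J :=
        inv_eq_of_mul_eq_one_right (by rw [← pow_two, hJ, ← orderOf_zz hd, pow_orderOf_eq_one])
      have hinv : x * (x * y) * x⁻¹ = (x * y)⁻¹ := by
        rw [mul_inv_rev, hxinv, hyinv, ← mul_assoc x x y, hxx, one_mul]
      have hxC : x ∈ CJ ι q := by
        rw [Subgroup.mem_centralizer_singleton_iff]
        refine mul_inv_eq_iff_eq_mul.1 ?_
        show x * J * x⁻¹ = J
        rw [← hz, ← conj_pow, hinv, inv_pow, hz, hJinv]
      have hyC : y ∈ CJ ι q := by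
        rw [show y = x * (x * y) by rw [← mul_assoc, hxx, one_mul]]
        refine mul_mem hxC ?_
        rw [Subgroup.mem_centralizer_singleton_iff, ← hJ, ← hz]
        exact (Commute.self_pow (x * y) _).eq
      let cx : CJ ι q := ⟨x, hxC⟩
      let cy : CJ ι q := ⟨y, hyC⟩
      have hox : orderOf cx = 2 := by rw [Subgroup.orderOf_mk, hx]
      have hoy : orderOf cy = 2 := by rw [Subgroup.orderOf_mk, hy]
      have hcom : ∀ w : G, w ∈ CJ ι q → Commute w J := fun w hw => Subgroup.mem_centralizer_singleton_iff.1 hw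
      have hJJ : J * J = 1 := by rw [← pow_two, hJ, ← orderOf_zz hd, pow_orderOf_eq_one]
      have hnotJ : ∀ u : G, u * u = 1 → u ∈ CJ ι q → (u ≠ 1 → x * y = u → u = J) := fun u hu _ hu1 e => by
        rw [e] at hz
        have ho : orderOf u = 2 := orderOf_eq_prime (by rw [pow_two, hu]) hu1
        rwa [ho, show 2 / 2 = 1 from rfl, pow_one] at hz
      have hxy1 : x * y ≠ 1 := fun h => by rw [h, orderOf_one] at he; omega
      constructor
      · rcases involution_over hπ hox with e | ⟨i, e, -⟩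
        · exfalso
          have ex : x = J := congrArg Subtype.val e
          have := hnotJ (x * y) (by rw [ex, mul_assoc, ← mul_assoc y, (hcom y hyC).eq, mul_assoc, hyy, mul_one, hJJ])
            (mul_mem hxC hyC) hxy1 rfl
          rw [ex] at this
          exact absurd hy (by rw [mul_eq_left.1 this, orderOf_one]; omega)
        · exact (hR x).2 ⟨hxC, i, hx, e⟩
      · rcases involution_over hπ hoy with e | ⟨i, e, -⟩
        · exfalso
          have ey : y = J := congrArg Subtype.val e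
          have := hnotJ (x * y) (by rw [ey, mul_assoc, ← mul_assoc J, ← (hcom x hxC).eq, mul_assoc x J, hJJ, mul_one, hxx])
            (mul_mem hxC hyC) hxy1 rfl
          rw [ey] at this
          exact absurd hx (by rw [mul_eq_right.1 this, orderOf_one]; omega)
        · exact (hR y).2 ⟨hyC, i, hy, e⟩
    have hterm : ∀ (i j : ZMod m) (x y : CJ ι q), x ∈ reflFib ι q π i → y ∈ reflFib ι q π j →
        (if 2 ∣ orderOf ((x : G) * y) ∧ ((x : G) * y) ^ (orderOf ((x : G) * y) / 2) = J then Θ ((x : G) * y) else 0) =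
          ψ (j - i) + ψ (-(j - i)) - 2 := by
      intro i j x y hx hy
      have hc : π (x * y) = r (j - i) := by
        rw [map_mul, (mem_reflFib.1 hx).2, (mem_reflFib.1 hy).2, sr_mul_sr]
      by_cases hij : j - i = 0
      · rw [if_neg, hij, neg_zero, AddChar.map_zero_eq_one]
        · norm_num
        rintro ⟨he, -⟩
        rw [hij, r_zero] at hc
        exact hπ.orderOf_ker hc (by rwa [← Subgroup.orderOf_coe])
      · obtain ⟨h1, h2⟩ := invol_rot hπ hij hc
        rw [Subgroup.coe_mul] at h1 h2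
        rw [if_pos ⟨h1, h2⟩]
        exact hΘrot (x * y) _ hij hc
    have hdisj : (↑(Finset.univ : Finset (ZMod m)) : Set (ZMod m)).PairwiseDisjoint
        fun i => (reflFib ι q π i).map ⟨Subtype.val, Subtype.val_injective⟩ := fun a _ b _ hab => by
      rw [Function.onFun, Finset.disjoint_left]
      intro x hxa hxb
      obtain ⟨c, hc, rfl⟩ := Finset.mem_map.1 hxa
      obtain ⟨c', hc', he⟩ := Finset.mem_map.1 hxb
      obtain rfl : c' = c := Subtype.ext he
      exact hab (sr.inj ((mem_reflFib.1 hc).2.symm.trans (mem_reflFib.1 hc').2))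
    simp only [T]
    rw [← Finset.sum_subset hRI (fun x hx hxR => Finset.sum_eq_zero fun y hy => if_neg fun h =>
      hxR (hkey x hx y hy h.1 h.2).1)]
    rw [Finset.sum_congr rfl fun x hx => (Finset.sum_subset hRI (fun y hy hyR => if_neg fun h =>
      hyR (hkey x (hRI hx) y hy h.1 h.2).2)).symm]
    rw [Finset.sum_biUnion hdisj]
    refine Finset.sum_congr rfl fun i _ => ?_
    rw [Finset.sum_map]
    refine (Finset.sum_congr rfl fun x hx => (Finset.sum_biUnion hdisj).trans
      (Finset.sum_congr rfl fun j _ => (Finset.sum_map _ _ _).trans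
        (Finset.sum_congr rfl fun y hy => hterm i j x y hx hy))).trans ?_
    simp only [Finset.sum_const, nsmul_eq_mul, Finset.mul_sum]
    exact Finset.sum_congr rfl fun j _ => by ring
  have hR' : ∑ g : G, ∑ w : G, Θ (g * J * g⁻¹ * (w * J * w⁻¹)) =
      (Nat.card (CJ ι q) : ℂ) * ((Nat.card (CJ ι q) : ℂ) * ((I.card : ℂ) * T J)) := by
    rw [Finset.sum_congr rfl fun g _ => sum_conjugates_complex J (fun y => Θ (g * J * g⁻¹ * y)),
      ← Finset.mul_sum, sum_conjugates_complex J (fun x => ∑ y ∈ I, Θ (x * y)), ← hI, hgroup,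
      Finset.sum_congr rfl fun z hz => show T z = T J by
        obtain ⟨g, -, rfl⟩ := Finset.mem_image.1 hz
        exact hTconj g J, Finset.sum_const, nsmul_eq_mul]
  have hcard : (I.card : ℂ) * (Nat.card (CJ ι q) : ℂ) = (Nat.card G : ℂ) := by
    have h := sum_conjugates J (fun _ => 1)
    simp only [Finset.sum_const, Finset.card_univ, smul_eq_mul, mul_one, ← Nat.card_eq_fintype_card, ← hI] at h
    rw [mul_comm, h]
    push_cast
    rfl
  have hfa : (f : G → ℂ) 1 = (a : G → ℂ) 1 - (s : ℂ) := by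
    have h1 := hodd 1 (by rw [orderOf_one]; decide)
    linear_combination (-(s : ℂ)) * h1 + ((a : G → ℂ) 1 - (f : G → ℂ) 1) * hs2
  have hA0 := irr_one_ne_zero a.2
  have hF0 := irr_one_ne_zero f.2
  rw [hL, hTJ, sum_pairs_weight hd.hm hd.hq hψ (fun i => (reflFib ι q π i).card)
    (fun i j h => reflFib_card_par hπ h)] at hR'
  generalize (((2 * q : ℕ) : ℂ) * (((reflFib ι q π 0).card : ℂ) + ((reflFib ι q π (-1)).card : ℂ))) ^ 2 = W at hR' ⊢
  generalize (Nat.card (CJ ι q) : ℂ) = C at hR' hcard ⊢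
  have hG0 : (Nat.card G : ℂ) ≠ 0 := CfsgLib.Char.card_ne_zero'
  refine mul_left_cancel₀ hG0 ?_
  rw [hfa] at hR' hF0
  field_simp at hR'
  linear_combination -hR' + 2 * (a : G → ℂ) 1 * ((a : G → ℂ) 1 - (s : ℂ)) * C * W * hcard

/-- **The order formula**, with the centralizers. -/
theorem order_formula (hM : IsPModular 2 M) (hd : Data P ι q) (hψ : ψ.IsPrimitive)
    (hall : ∀ t : G, orderOf t = 2 → IsConj (zz ι q) t) (χ₁ : IrrCharacter G)
    (hχ₁ : χ₁ ∈ principalBlock M G) (h1 : χ₁ ≠ irrOne) (δ : ℤ) (hδ : δ = 1 ∨ δ = -1)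
    (hval : ∀ l : ZMod m, l ≠ 0 → (χ₁ : G → ℂ) (ι (r l)) = (δ : ℂ)) :
    (charDegree (χ₁ : G → ℂ) : ℤ) ≠ δ ∧ (Nat.card G : ℚ) * ((charDegree (χ₁ : G → ℂ) : ℚ) - δ) ^ 2 =
      2 * (charDegree (χ₁ : G → ℂ) : ℚ) * ((charDegree (χ₁ : G → ℂ) : ℚ) + δ) * (Nat.card (CJ ι q) : ℚ) ^ 3 *
        (1 / (Nat.card (Subgroup.centralizer ({zz ι q, ι (sr 0)} : Set G)) : ℚ) +
          1 / (Nat.card (Subgroup.centralizer ({zz ι q, ι (sr (-1))} : Set G)) : ℚ)) ^ 2 := by
  obtain ⟨π, hπ⟩ := exists_retract hd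
  obtain ⟨a, b, c, f, s, t₂, t₃, hs, ht₂, ht₃, -, -, -, -, -, -, -, -, hB, hrows, hodd⟩ := exists_rows hM hd hψ
  have hq := hd.hq
  have hh := half_ne_zero hd.hm hd.hq
  have hone : (1 : ZMod m) ≠ 0 := fun h => by
    have h' : ((1 : ℕ) : ZMod m) = 0 := by exact_mod_cast h
    have := Nat.le_of_dvd one_pos ((ZMod.natCast_eq_zero_iff _ _).1 h')
    have := hd.hm
    omega
  have htwo := two_ne_zero_zmod (m := m) hd.hm hd.hq
  have hψh := psi_half hd.hm hd.hq hψ
  have hδ0 : (δ : ℂ) ≠ 0 := by rcases hδ with rfl | rfl <;> norm_num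
  have ha : χ₁ = a := by
    rw [hB] at hχ₁
    have hsplit : ∀ (t : ℤ) (χ : IrrCharacter G), (t = 1 ∨ t = -1) →
        (∀ l : ZMod m, l ≠ 0 → (χ : G → ℂ) (ι (r l)) = (t : ℂ) * ψ (((2 * q : ℕ) : ZMod m) * l)) → χ₁ ≠ χ := by
      intro t χ ht hχ e
      have e1 := hval 1 hone
      have e2 := hval 2 htwo
      rw [e, hχ 1 hone, mul_one, hψh] at e1
      rw [e, hχ 2 htwo, mul_comm _ (2 : ZMod m), (two_mul_eq_zero_iff hd.hm hd.hq).2 (Or.inr rfl),
        AddChar.map_zero_eq_one] at e2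
      rcases ht with rfl | rfl <;> push_cast at e1 e2 <;> exact hδ0 (by linear_combination -(e1 + e2) / 2)
    rcases hχ₁ with h | h | h | h | ⟨i, h⟩
    · exact absurd h h1
    · exact h
    · exact absurd h (hsplit t₂ b ht₂ fun l hl => (hrows l hl).2.1)
    · exact absurd h (hsplit t₃ c ht₃ fun l hl => (hrows l hl).2.2.1)
    · exfalso
      have e := hval _ hh
      rw [h, (hrows _ hh).2.2.2 i] at e
      set z := (((i : ℕ) + 1 : ℕ) : ZMod m) * ((2 * q : ℕ) : ZMod m) with hz
      have hz2 : ψ z * ψ z = 1 := by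
        rw [← AddChar.map_add_eq_mul, ← two_mul, hz, mul_left_comm,
          (two_mul_eq_zero_iff hd.hm hd.hq).2 (Or.inr rfl), mul_zero, AddChar.map_zero_eq_one]
      have hzn : ψ (-z) = ψ z := by rw [hz, ← mul_neg, neg_half hd.hm]
      rw [hzn] at e
      have : ((4 : ℤ) : ℂ) = ((1 : ℤ) : ℂ) := by
        have hs2 : (s : ℂ) * s = 1 := by rcases hs with rfl | rfl <;> norm_num
        have hd2 : (δ : ℂ) * δ = 1 := by rcases hδ with rfl | rfl <;> norm_num
        push_cast
        linear_combination (-(2 * (s : ℂ) * ψ z) + δ) * e - 4 * hs2 - 4 * (s : ℂ) * (s : ℂ) * hz2 + hd2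
      exact absurd (Int.cast_inj.1 this) (by norm_num)
  subst ha
  have hδs : (δ : ℂ) = -(s : ℂ) := (hval 1 hone).symm.trans (hrows 1 hone).1
  let i0 : Fin (2 * q - 1) := ⟨0, by omega⟩
  have hid := order_identity hM hd hψ hall hπ χ₁ (f i0) s hs
    ⟨irrOne_mem_principalBlock, hχ₁, hB ▸ Or.inr (Or.inr (Or.inr (Or.inr ⟨i0, rfl⟩)))⟩
    (fun l hl => ⟨(hrows l hl).1, by
      rw [(hrows l hl).2.2.2 i0, show (((i0 : ℕ) + 1 : ℕ) : ZMod m) = 1 from Nat.cast_one, one_mul]⟩)
    (fun ρ hρ => (hodd ρ hρ).1 i0)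
  rw [← CfsgLib.CharBlocks.coe_charDegree_irr] at hid
  set A := charDegree (χ₁ : G → ℂ) with hA
  have hA0 : 0 < A := CfsgLib.CharBlocks.charDegree_pos χ₁.2
  have hq' : (Nat.card G : ℚ) * ((A : ℚ) - δ) ^ 2 = 2 * (A : ℚ) * ((A : ℚ) + δ) * (Nat.card (CJ ι q) : ℚ) *
      (((2 * q : ℕ) : ℚ) * (((reflFib ι q π 0).card : ℚ) + ((reflFib ι q π (-1)).card : ℚ))) ^ 2 := by
    rw [← Rat.cast_inj (α := ℂ)]
    push_cast
    rw [hδs]
    push_cast at hid
    linear_combination hid
  have hc : ∀ j : ZMod m, ((2 * q : ℕ) : ℚ) * ((reflFib ι q π j).card : ℚ) = (Nat.card (CJ ι q) : ℚ) *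
      (1 / (Nat.card (Subgroup.centralizer ({zz ι q, ι (sr j)} : Set G)) : ℚ)) := fun j => by
    have h := congrArg (Nat.cast : ℕ → ℚ) (card_reflFib_centralizer hπ j)
    push_cast at h ⊢
    rw [mul_one_div, eq_div_iff (Nat.cast_ne_zero.2 Nat.card_pos.ne'), h]
  rw [mul_add (((2 * q : ℕ) : ℚ)), hc, hc, ← mul_add] at hq'
  refine ⟨fun e => ?_, by rw [hq']; ring⟩
  have e' : (A : ℚ) = (δ : ℚ) := by exact_mod_cast e
  rw [e', sub_self, zero_pow two_ne_zero, mul_zero] at hq'
  have hδQ : (δ : ℚ) ≠ 0 := by rcases hδ with rfl | rfl <;> norm_num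
  have hposC : (0 : ℚ) < Nat.card (CJ ι q) := Nat.cast_pos.2 Nat.card_pos
  have hsum : (0 : ℚ) < 1 / (Nat.card (Subgroup.centralizer ({zz ι q, ι (sr 0)} : Set G)) : ℚ) +
      1 / (Nat.card (Subgroup.centralizer ({zz ι q, ι (sr (-1))} : Set G)) : ℚ) := by
    have h0 : (0 : ℚ) < Nat.card (Subgroup.centralizer ({zz ι q, ι (sr 0)} : Set G)) := Nat.cast_pos.2 Nat.card_pos
    have h1 : (0 : ℚ) < Nat.card (Subgroup.centralizer ({zz ι q, ι (sr (-1))} : Set G)) := Nat.cast_pos.2 Nat.card_pos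
    positivity
  have : (0 : ℚ) < 2 * (δ : ℚ) * ((δ : ℚ) + δ) * Nat.card (CJ ι q) := by
    have : (0 : ℚ) < 2 * (δ : ℚ) * ((δ : ℚ) + δ) := by rcases hδ with rfl | rfl <;> norm_num
    exact mul_pos this hposC
  exact absurd hq'.symm (mul_pos this (pow_pos (mul_pos hposC hsum) 2)).ne'

end CfsgLib.Blocks.DihBlock
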