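import Mathlib

/-!
# Integral vectors of norm two and three with inner products one

`sunflower`: they share one coordinate, up to the degree relations.
-/

set_option autoImplicit false

namespace CfsgLib.Blocks.DihBlock

open scoped Classical

variable {α : Type*}

theorem abs_le_one_of_norm (S : Finset α) (f : α → ℤ) {k : ℤ} (hk : k ≤ 3) (h : ∑ x ∈ S, f x * f x = k) :
    (∀ x ∈ S, f x = 0 ∨ f x = 1 ∨ f x = -1) ∧ ((S.filter fun x => f x ≠ 0).card : ℤ) = k := by
  have h1 : ∀ x ∈ S, f x = 0 ∨ f x = 1 ∨ f x = -1 := fun x hx => by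
    have := Finset.single_le_sum (f := fun x => f x * f x) (fun i _ => mul_self_nonneg (f i)) hx
    have h3 : f x * f x ≤ 3 := by linarith
    have : f x ≤ 1 := by nlinarith
    have : -1 ≤ f x := by nlinarith
    omega
  refine ⟨h1, ?_⟩
  rw [← h, Finset.card_filter]
  push_cast
  refine Finset.sum_congr rfl fun x hx => ?_
  rcases h1 x hx with e | e | e <;> simp [e]

/-- Overlap of a vector of norm two with one of norm at most three and inner product one. -/
theorem overlap_one (S : Finset α) (f g : α → ℤ) (hf : ∑ x ∈ S, f x * f x = 2)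
    {k : ℤ} (hk : k ≤ 3) (hg : ∑ x ∈ S, g x * g x = k) (hfg : ∑ x ∈ S, f x * g x = 1) :
    ∃ a ∈ S, f a ≠ 0 ∧ g a = f a ∧ ∀ x ∈ S, f x ≠ 0 → g x ≠ 0 → x = a := by
  obtain ⟨hf1, hfc⟩ := abs_le_one_of_norm S f (by norm_num) hf
  obtain ⟨hg1, -⟩ := abs_le_one_of_norm S g hk hg
  set I := (S.filter fun x => f x ≠ 0).filter fun x => g x ≠ 0 with hI
  have hsum : ∑ x ∈ I, f x * g x = 1 := by
    rw [← hfg]
    refine Finset.sum_subset (fun x hx => (Finset.mem_filter.mp (Finset.mem_filter.mp hx).1).1) fun x hx hn => ?_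
    by_contra hne
    exact hn (Finset.mem_filter.mpr ⟨Finset.mem_filter.mpr ⟨hx, left_ne_zero_of_mul hne⟩, right_ne_zero_of_mul hne⟩)
  have hle : I.card ≤ 2 := by
    have := Finset.card_filter_le (S.filter fun x => f x ≠ 0) (fun x => g x ≠ 0)
    rw [hI]; omega
  have hpm : ∀ x ∈ I, f x * g x = 1 ∨ f x * g x = -1 := fun x hx => by
    obtain ⟨hx1, hgx⟩ := Finset.mem_filter.mp hx
    obtain ⟨hxS, hfx⟩ := Finset.mem_filter.mp hx1
    rcases hf1 x hxS with e | e | e <;> rcases hg1 x hxS with e' | e' | e' <;> simp_all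
  interval_cases hc : I.card
  · rw [Finset.card_eq_zero.mp hc, Finset.sum_empty] at hsum
    exact absurd hsum (by norm_num)
  · obtain ⟨a, ha⟩ := Finset.card_eq_one.mp hc
    rw [ha, Finset.sum_singleton] at hsum
    have haI : a ∈ I := ha ▸ Finset.mem_singleton_self a
    obtain ⟨hx1, -⟩ := Finset.mem_filter.mp haI
    obtain ⟨haS, hfa⟩ := Finset.mem_filter.mp hx1
    refine ⟨a, haS, hfa, ?_, fun x hx h1 h2 => Finset.mem_singleton.mp (ha ▸
      Finset.mem_filter.mpr ⟨Finset.mem_filter.mpr ⟨hx, h1⟩, h2⟩)⟩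
    rcases Int.eq_one_or_neg_one_of_mul_eq_one' hsum with ⟨e, e'⟩ | ⟨e, e'⟩ <;> rw [e, e']
  · obtain ⟨a, b, hab, hI2⟩ := Finset.card_eq_two.mp hc
    rw [hI2, Finset.sum_pair hab] at hsum
    rcases hpm a (hI2 ▸ Finset.mem_insert_self a {b}) with e | e <;>
      rcases hpm b (hI2 ▸ Finset.mem_insert_of_mem (Finset.mem_singleton_self b)) with e' | e' <;> omega

theorem sunflower (S : Finset α) {m : ℕ} (hm : Odd m) (v : Fin m → α → ℤ) (w : α → ℤ)
    (hvv : ∀ i j, ∑ x ∈ S, v i x * v j x = if i = j then 2 else 1)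
    (hvw : ∀ i, ∑ x ∈ S, v i x * w x = 1) (hww : ∑ x ∈ S, w x * w x = 3)
    (d : α → ℤ) (hd : ∀ x ∈ S, 0 < d x) (hdv : ∀ i, ∑ x ∈ S, v i x * d x = 1)
    (hdw : ∑ x ∈ S, w x * d x = 1) :
    ∃ a ∈ S, ∃ b ∈ S, ∃ c ∈ S, ∃ (ψ : Fin m → α) (s t₂ t₃ : ℤ), (s = 1 ∨ s = -1) ∧ (t₂ = 1 ∨ t₂ = -1) ∧
      (t₃ = 1 ∨ t₃ = -1) ∧ a ≠ b ∧ a ≠ c ∧ b ≠ c ∧ Function.Injective ψ ∧
      (∀ i, ψ i ∈ S ∧ ψ i ≠ a ∧ ψ i ≠ b ∧ ψ i ≠ c) ∧
      (∀ i, ∀ x ∈ S, v i x = if x = a then s else if x = ψ i then -s else 0) ∧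
      (∀ x ∈ S, w x = if x = a then s else if x = b then t₂ else if x = c then t₃ else 0) := by
  have hvi : ∀ i, ∑ x ∈ S, v i x * v i x = 2 := fun i => by simpa using hvv i i
  have hv1 := fun i => (abs_le_one_of_norm S (v i) (by norm_num) (hvi i)).1
  have hvc := fun i => (abs_le_one_of_norm S (v i) (by norm_num) (hvi i)).2
  obtain ⟨hw1, hwc⟩ := abs_le_one_of_norm S w le_rfl hww
  choose p hpS hpv hpw hpu using fun i => overlap_one S (v i) w (hvi i) le_rfl hww (hvw i)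
  choose o hoS hov how hou using fun ij : {ij : Fin m × Fin m // ij.1 ≠ ij.2} =>
    overlap_one S (v ij.1.1) (v ij.1.2) (hvi _) (by norm_num) (hvi _) (by rw [hvv, if_neg ij.2])
  have htwo : ∀ i a, a ∈ S → v i a ≠ 0 → ∃ b ∈ S, b ≠ a ∧ v i b ≠ 0 ∧
      ∀ x ∈ S, v i x ≠ 0 → x = a ∨ x = b := fun i a haS ha => by
    obtain ⟨b, hb⟩ := Finset.card_eq_one.mp (show ((S.filter fun x => v i x ≠ 0).erase a).card = 1 by
      rw [Finset.card_erase_of_mem (Finset.mem_filter.mpr ⟨haS, ha⟩)]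
      have := hvc i
      omega)
    have hb' : b ∈ (S.filter fun x => v i x ≠ 0).erase a := hb ▸ Finset.mem_singleton_self b
    obtain ⟨hba, hbS⟩ := Finset.mem_erase.mp hb'
    refine ⟨b, (Finset.mem_filter.mp hbS).1, hba, (Finset.mem_filter.mp hbS).2, fun x hx hxv => ?_⟩
    refine or_iff_not_imp_left.mpr fun hxa => Finset.mem_singleton.mp (hb ▸
      Finset.mem_erase.mpr ⟨hxa, Finset.mem_filter.mpr ⟨hx, hxv⟩⟩)
  have hpos : 0 < m := hm.pos
  let i₀ : Fin m := ⟨0, hpos⟩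
  obtain ⟨a, haS, haw, hav⟩ : ∃ a ∈ S, w a ≠ 0 ∧ ∀ i, v i a ≠ 0 := by
    rcases (show m = 1 ∨ 2 ≤ m by omega) with h1 | h2
    · refine ⟨p i₀, hpS i₀, by rw [hpw]; exact hpv i₀, fun i => ?_⟩
      rw [show i = i₀ from Fin.ext (by have := i.2; show (i : ℕ) = 0; omega)]
      exact hpv i₀
    let i₁ : Fin m := ⟨1, by omega⟩
    have h01 : i₀ ≠ i₁ := fun h => by simp [i₀, i₁, Fin.ext_iff] at h
    let e₀ : {ij : Fin m × Fin m // ij.1 ≠ ij.2} := ⟨(i₀, i₁), h01⟩
    obtain ⟨b₀, hb₀S, hb₀a, hb₀, hb₀u⟩ := htwo i₀ (o e₀) (hoS e₀) (hov e₀)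
    have ha1 : v i₁ (o e₀) ≠ 0 := (how e₀).symm ▸ hov e₀
    obtain ⟨b₁, hb₁S, hb₁a, hb₁, hb₁u⟩ := htwo i₁ (o e₀) (hoS e₀) ha1
    have hb01 : b₀ ≠ b₁ := fun h => hb₀a (hou e₀ b₀ hb₀S hb₀ (show v i₁ b₀ ≠ 0 from h ▸ hb₁))
    have hall : ∀ k, v k (o e₀) = 0 → v k b₀ ≠ 0 ∧ v k b₁ ≠ 0 := fun k hk => by
      have hk0 : i₀ ≠ k := fun h => hov e₀ (show v i₀ (o e₀) = 0 from h ▸ hk)
      have hk1 : i₁ ≠ k := fun h => ha1 (h ▸ hk)
      have key : ∀ (i : Fin m) (b : α), i ≠ k → (∀ x ∈ S, v i x ≠ 0 → x = o e₀ ∨ x = b) → v k b ≠ 0 :=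
        fun i b hik hu => by
        let e : {ij : Fin m × Fin m // ij.1 ≠ ij.2} := ⟨(i, k), hik⟩
        have hk' : v k (o e) ≠ 0 := (how e).symm ▸ hov e
        rcases hu _ (hoS e) (hov e) with h | h
        · rw [h] at hk'; exact absurd hk hk'
        · rwa [h] at hk'
      exact ⟨key i₀ b₀ hk0 hb₀u, key i₁ b₁ hk1 hb₁u⟩
    by_cases hwa : w (o e₀) = 0
    · exfalso
      have hpb₀ : p i₀ = b₀ := (hb₀u _ (hpS i₀) (hpv i₀)).resolve_left fun h => hpv i₀ (by
        rw [← hpw, h, hwa])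
      have hpb₁ : p i₁ = b₁ := (hb₁u _ (hpS i₁) (hpv i₁)).resolve_left fun h => hpv i₁ (by
        rw [← hpw, h, hwa])
      have hka : ∀ k, v k (o e₀) ≠ 0 := fun k hk => by
        obtain ⟨h0, h1⟩ := hall k hk
        have e0 := hpu k b₀ hb₀S h0 (hpb₀ ▸ (hpw i₀).symm ▸ hpv i₀)
        have e1 := hpu k b₁ hb₁S h1 (hpb₁ ▸ (hpw i₁).symm ▸ hpv i₁)
        exact hb01 (e0.trans e1.symm)
      have hpne : ∀ k, p k ≠ o e₀ := fun k h => hpv k (by rw [← hpw, h, hwa])
      have hsupp : ∀ k, ∀ x ∈ S, v k x ≠ 0 → x = o e₀ ∨ x = p k := fun k => by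
        obtain ⟨b, hbS, -, hb, hbu⟩ := htwo k _ (hoS e₀) (hka k)
        have hpb : p k = b := (hbu _ (hpS k) (hpv k)).resolve_left (hpne k)
        rwa [hpb]
      have hpinj : Function.Injective p := fun i j hij => by
        by_contra hne
        let e : {ij : Fin m × Fin m // ij.1 ≠ ij.2} := ⟨(i, j), hne⟩
        exact hpne i ((hou e (p i) (hpS i) (hpv i) (show v j (p i) ≠ 0 from hij ▸ hpv j)).trans
          (hou e (o e₀) (hoS e₀) (hka i) (hka j)).symm)
      have hsub : Finset.univ.image p ⊆ S.filter fun x => w x ≠ 0 := fun x hx => by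
        obtain ⟨k, -, rfl⟩ := Finset.mem_image.mp hx
        exact Finset.mem_filter.mpr ⟨hpS k, by rw [hpw]; exact hpv k⟩
      have hcard := Finset.card_le_card hsub
      rw [Finset.card_image_of_injective _ hpinj, Finset.card_univ, Fintype.card_fin] at hcard
      have hm3 : m = 3 := by obtain ⟨j, hj⟩ := hm; omega
      have heq := Finset.eq_of_subset_of_card_le hsub (by
        rw [Finset.card_image_of_injective _ hpinj, Finset.card_univ, Fintype.card_fin]; omega)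
      have hsame : ∀ k, v k (o e₀) = v i₀ (o e₀) := fun k => by
        by_cases hk : i₀ = k
        · rw [hk]
        let e : {ij : Fin m × Fin m // ij.1 ≠ ij.2} := ⟨(i₀, k), hk⟩
        have he : o e₀ = o e := hou e (o e₀) (hoS e₀) (hka i₀) (hka k)
        rw [he]; exact how e
      have hrel : ∀ k, w (p k) * d (p k) = 1 - v i₀ (o e₀) * d (o e₀) := fun k => by
        have hsum := hdv k
        rw [← Finset.sum_subset (s₁ := {o e₀, p k}) (by
            intro x hx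
            rcases Finset.mem_insert.mp hx with rfl | hx
            · exact hoS e₀
            · rw [Finset.mem_singleton.mp hx]; exact hpS k)
          (fun x hx hxn => by
            by_contra hne
            rcases hsupp k x hx (left_ne_zero_of_mul hne) with rfl | rfl <;> simp at hxn),
          Finset.sum_pair (hpne k).symm, hsame] at hsum
        rw [hpw]; linarith
      have h3 := hdw
      rw [← Finset.sum_filter_of_ne (p := fun x => w x ≠ 0) (fun x _ hx => left_ne_zero_of_mul hx),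
        ← heq, Finset.sum_image fun i _ j _ h => hpinj h, Finset.sum_congr rfl fun k _ => hrel k,
        Finset.sum_const, Finset.card_univ, Fintype.card_fin, hm3, nsmul_eq_mul] at h3
      push_cast at h3
      omega
    · refine ⟨o e₀, hoS e₀, hwa, fun k hk => ?_⟩
      obtain ⟨h0, h1⟩ := hall k hk
      have hp0 : p i₀ = o e₀ := ((hpu i₀ (o e₀) (hoS e₀) (hov e₀) hwa)).symm
      have hp1 : p i₁ = o e₀ := ((hpu i₁ (o e₀) (hoS e₀) ha1 hwa)).symm
      have hkp := hpv k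
      have hwp : w (p k) ≠ 0 := by rw [hpw]; exact hkp
      obtain ⟨b, -, -, -, hbu⟩ := htwo k b₀ hb₀S h0
      have hb1b : b₁ = b := (hbu b₁ hb₁S h1).resolve_left (Ne.symm hb01)
      rcases hbu _ (hpS k) hkp with h | h
      · exact hb₀a ((hpu i₀ b₀ hb₀S hb₀ (h ▸ hwp)).trans hp0)
      · rw [← hb1b] at h
        exact hb₁a ((hpu i₁ b₁ hb₁S hb₁ (h ▸ hwp)).trans hp1)
  have hva : ∀ i, v i a = w a := fun i => by
    rw [hpu i a haS (hav i) haw, hpw]
  choose ψ hψS hψa hψv hψu using fun i => htwo i a haS (hav i)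
  obtain ⟨b, c, hbc, hH⟩ := Finset.card_eq_two.mp
    (show ((S.filter fun x => w x ≠ 0).erase a).card = 2 by
      rw [Finset.card_erase_of_mem (Finset.mem_filter.mpr ⟨haS, haw⟩)]; omega)
  have hbm := hH ▸ Finset.mem_insert_self b {c}
  have hcm := hH ▸ Finset.mem_insert_of_mem (Finset.mem_singleton_self c)
  simp only [Finset.mem_erase, Finset.mem_filter] at hbm hcm
  have hpm : ∀ x ∈ S, w x ≠ 0 → w x = 1 ∨ w x = -1 := fun x hx h => (hw1 x hx).resolve_left h
  have hwψ : ∀ i, w (ψ i) = 0 := fun i => by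
    by_contra h
    exact hψa i ((hpu i (ψ i) (hψS i) (hψv i) h).trans (hpu i a haS (hav i) haw).symm)
  refine ⟨a, haS, b, hbm.2.1, c, hcm.2.1, ψ, w a, w b, w c, hpm a haS haw, hpm b hbm.2.1 hbm.2.2,
    hpm c hcm.2.1 hcm.2.2, Ne.symm hbm.1, Ne.symm hcm.1, hbc, fun i j hij => ?_,
    fun i => ⟨hψS i, hψa i, fun h => hbm.2.2 (h ▸ hwψ i), fun h => hcm.2.2 (h ▸ hwψ i)⟩,
    fun i x hx => ?_, fun x hx => ?_⟩
  · by_contra hne
    let e : {ij : Fin m × Fin m // ij.1 ≠ ij.2} := ⟨(i, j), hne⟩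
    exact hψa i ((hou e (ψ i) (hψS i) (hψv i) (show v j (ψ i) ≠ 0 from hij ▸ hψv j)).trans
      (hou e a haS (hav i) (hav j)).symm)
  · split_ifs with h1 h2
    · rw [h1, hva]
    · subst h2
      have hsum := hdv i
      rw [← Finset.sum_subset (s₁ := {a, ψ i}) (by
          intro x hx
          rcases Finset.mem_insert.mp hx with rfl | hx
          · exact haS
          · rw [Finset.mem_singleton.mp hx]; exact hψS i)
        (fun x hx hxn => by
          by_contra hne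
          rcases hψu i x hx (left_ne_zero_of_mul hne) with rfl | rfl <;> simp at hxn),
        Finset.sum_pair (Ne.symm (hψa i)), hva] at hsum
      have hA := hd a haS
      have hX := hd _ (hψS i)
      rcases hpm a haS haw with e | e <;> rcases (hv1 i _ (hψS i)).resolve_left (hψv i) with e' | e' <;>
        rw [e, e'] <;> rw [e, e'] at hsum <;> omega
    · by_contra hne
      rcases hψu i x hx hne with rfl | rfl
      · exact h1 rfl
      · exact h2 rfl
  · split_ifs with h1 h2 h3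
    · rw [h1]
    · rw [h2]
    · rw [h3]
    · by_contra hne
      have hx' : x ∈ (S.filter fun x => w x ≠ 0).erase a :=
        Finset.mem_erase.mpr ⟨h1, Finset.mem_filter.mpr ⟨hx, hne⟩⟩
      rw [hH, Finset.mem_insert, Finset.mem_singleton] at hx'
      exact hx'.elim h2 h3

end CfsgLib.Blocks.DihBlock
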