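import Cfsg.Agent.Lib.Blocks.DihBlock.Local
import Cfsg.Agent.Lib.Blocks.DihBlock.Sunflower
import Mathlib.NumberTheory.LegendreSymbol.AddCharacter
import Mathlib.Analysis.RCLike.Basic

/-!
# The rows of the principal 2-block on the rotations of a dihedral Sylow subgroup

* `rotCoef`: the difference of the multiplicities of two characters of the rotation group;
* `rotCoef_gram`, `exists_int_rotCoef`: these are integers with a known Gram matrix;
* `exists_rows`: the members of the block, their values on rotations and the relations on odd elements.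
-/

set_option autoImplicit false

noncomputable section

open scoped Classical ComplexConjugate

namespace CfsgLib.Blocks.DihBlock

open Cfsg CfsgLib.Invol CfsgLib.Invol.DihSylow DihedralGroup CfsgLib.Char

variable {G : Type*} [Group G] [Fintype G] {m q : ℕ} [NeZero m] {P : Sylow 2 G} {ι : DihedralGroup m →* G}
  {ψ : AddChar (ZMod m) ℂ}

/-- The difference of two multiplicities. -/
def rotCoef (ι : DihedralGroup m →* G) (ψ : AddChar (ZMod m) ℂ) (χ : G → ℂ) (j : ZMod m) : ℂ :=
  (m : ℂ)⁻¹ * ∑ l : ZMod m, χ (ι (r l)) * (ψ (-(j * l)) - 1)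

theorem m_ne_zero : (m : ℂ) ≠ 0 := Nat.cast_ne_zero.mpr (NeZero.ne m)

omit [Fintype G] in
theorem sum_psi_mul (hψ : ψ.IsPrimitive) (a : ZMod m) :
    ∑ l : ZMod m, ψ (l * a) = if a = 0 then (m : ℂ) else 0 := by
  rw [AddChar.sum_mulShift a hψ, ZMod.card]
  split_ifs <;> simp

/-- A homomorphism to `ℂ` gives a character. -/
theorem isCharacter_of_monoidHom {H : Type*} [Group H] (f : H →* ℂ) : IsCharacter H (fun h => f h) := by
  let ρ : Representation ℂ H (Fin 1 → ℂ) :=
    { toFun := fun h => f h • (1 : Module.End ℂ (Fin 1 → ℂ))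
      map_one' := by rw [map_one, one_smul]
      map_mul' := fun a b => by rw [map_mul, smul_mul_smul_comm, mul_one] }
  refine ⟨1, ρ, funext fun h => ?_⟩
  show LinearMap.trace ℂ _ (f h • (1 : Module.End ℂ (Fin 1 → ℂ))) = f h
  rw [map_smul, LinearMap.trace_one, Module.finrank_fin_fun, Nat.cast_one, smul_eq_mul, mul_one]

theorem exists_int_rotCoef (χ : IrrCharacter G) (j : ZMod m) :
    ∃ u : ℤ, rotCoef ι ψ (χ : G → ℂ) j = (u : ℂ) := by
  let _ : Fintype (Multiplicative (ZMod m)) := Fintype.ofEquiv _ Multiplicative.ofAdd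
  let rot : Multiplicative (ZMod m) →* G :=
    MonoidHom.mk' (fun i => ι (r i.toAdd)) fun a b => by rw [← map_mul, r_mul_r]; rfl
  have hrc := isCharacter_comp (isCharacter_of_isIrr χ.2) rot
  have hmult : ∀ j : ZMod m, ∃ n : ℕ, (m : ℂ)⁻¹ * ∑ l : ZMod m, (χ : G → ℂ) (ι (r l)) * ψ (-(j * l)) = (n : ℂ) := by
    intro j
    let lam : Multiplicative (ZMod m) →* ℂ :=
      { toFun := fun i => ψ (j * i.toAdd)
        map_one' := by rw [toAdd_one, mul_zero, AddChar.map_zero_eq_one]
        map_mul' := fun a b => by rw [toAdd_mul, mul_add, AddChar.map_add_eq_mul] }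
    obtain ⟨n, hn⟩ := classInner_char_nat hrc (isCharacter_of_monoidHom lam)
    refine ⟨n, ?_⟩
    rw [← hn, classInner_def, Nat.card_congr Multiplicative.toAdd, Nat.card_zmod]
    refine congrArg _ (Fintype.sum_equiv Multiplicative.ofAdd _ _ fun l => ?_)
    show _ = (χ : G → ℂ) (ι (r l)) * conj (ψ (j * l))
    rw [← AddChar.map_neg_eq_conj]
  obtain ⟨a, ha⟩ := hmult j
  obtain ⟨b, hb⟩ := hmult 0
  refine ⟨(a : ℤ) - b, ?_⟩
  push_cast
  rw [← ha, ← hb, rotCoef, ← mul_sub, ← Finset.sum_sub_distrib]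
  simp only [zero_mul, neg_zero, AddChar.map_zero_eq_one, mul_one, mul_sub]

theorem rot_value (hψ : ψ.IsPrimitive) (χ : G → ℂ) {l : ZMod m} (hl : l ≠ 0) :
    χ (ι (r l)) = ∑ j : ZMod m, rotCoef ι ψ χ j * ψ (j * l) := by
  simp only [rotCoef, mul_assoc, Finset.sum_mul, ← Finset.mul_sum]
  rw [Finset.sum_comm]
  have h1 : ∀ k : ZMod m, ∑ j : ZMod m, χ (ι (r k)) * ((ψ (-(j * k)) - 1) * ψ (j * l)) =
      if k = l then χ (ι (r k)) * m else 0 := fun k => by
    rw [← Finset.mul_sum]
    have e : ∀ j : ZMod m, (ψ (-(j * k)) - 1) * ψ (j * l) = ψ (j * (l - k)) - ψ (j * l) := fun j => by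
      rw [sub_mul, one_mul, ← AddChar.map_add_eq_mul]
      congr 2
      ring
    simp only [e, Finset.sum_sub_distrib, sum_psi_mul hψ, if_neg hl, sub_zero, sub_eq_zero]
    by_cases h : k = l
    · rw [if_pos h.symm, if_pos h]
    · rw [if_neg (Ne.symm h), if_neg h, mul_zero]
  rw [Finset.sum_congr rfl fun k _ => h1 k, Finset.sum_ite_eq', if_pos (Finset.mem_univ _)]
  field_simp [m_ne_zero (m := m)]

theorem rot_inv_value (χ : IrrCharacter G) (l : ZMod m) :
    (χ : G → ℂ) (ι (r (-l))) = (χ : G → ℂ) (ι (r l)) := by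
  rw [← isClassFunction_of_isIrr χ.2 (ι (r l)) (ι (sr 0)), ← map_inv, ← map_mul, ← map_mul, inv_sr,
    sr_mul_r, sr_mul_sr, zero_sub, zero_add]

theorem rotCoef_neg (χ : IrrCharacter G) (j : ZMod m) :
    rotCoef ι ψ (χ : G → ℂ) (-j) = rotCoef ι ψ (χ : G → ℂ) j := by
  unfold rotCoef
  congr 1
  refine Fintype.sum_equiv (Equiv.neg _) _ _ fun l => ?_
  rw [Equiv.neg_apply, rot_inv_value, neg_mul, mul_neg]

theorem rotCoef_irrOne (hψ : ψ.IsPrimitive) {j : ZMod m} (hj : j ≠ 0) :
    rotCoef ι ψ ((irrOne : IrrCharacter G) : G → ℂ) j = -1 := by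
  show (m : ℂ)⁻¹ * ∑ l : ZMod m, (1 : ℂ) * (ψ (-(j * l)) - 1) = -1
  simp only [one_mul, Finset.sum_sub_distrib, Finset.sum_const, Finset.card_univ, ZMod.card, nsmul_eq_mul, mul_one]
  rw [Finset.sum_congr rfl fun l _ => by rw [show -(j * l) = l * (-j) by ring], sum_psi_mul hψ,
    if_neg (neg_ne_zero.mpr hj), zero_sub, mul_neg, inv_mul_cancel₀ m_ne_zero]

variable {M : Ideal AlgInt} [M.IsMaximal]

/-- Orthogonality between the sections of rotations. -/
theorem rot_orth (hM : IsPModular 2 M) (hd : Data P ι q) {l l' : ZMod m} (hl : l ≠ 0) (hl' : l' ≠ 0) :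
    ∑ χ : IrrCharacter G, (if χ ∈ principalBlock M G then
        (χ : G → ℂ) (ι (r l)) * conj ((χ : G → ℂ) (ι (r l'))) else 0) =
      (m : ℂ) * ((if l' = l then 1 else 0) + if l' = -l then 1 else 0) := by
  have : Fact (Nat.Prime 2) := ⟨Nat.prime_two⟩
  have hpow : ∀ k : ZMod m, ∃ j, orderOf (ι (r k)) = 2 ^ j := fun k => by
    obtain ⟨j, hj⟩ := IsPGroup.iff_orderOf.mp P.2 ⟨_, mem_S hd (r k)⟩
    exact ⟨j, by rw [← hj, ← Subgroup.orderOf_coe]⟩
  by_cases hc : l' = l ∨ l' = -l
  · have hval : ∀ χ : IrrCharacter G, (χ : G → ℂ) (ι (r l')) = (χ : G → ℂ) (ι (r l)) := fun χ => by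
      rcases hc with rfl | rfl
      · rfl
      · exact rot_inv_value χ l
    simp only [hval]
    let _ := Fintype.ofFinite (Subgroup.centralizer ({ι (r l)} : Set G))
    obtain ⟨hnc, hcard⟩ := centralizer_rot hd hl
    have h := sum_principal_section_complement hM (hpow l) hnc
      (y := (1 : Subgroup.centralizer ({ι (r l)} : Set G))) (by simp)
    simp only [OneMemClass.coe_one, mul_one] at h
    rw [h, hcard]
    have hh : -((2 * q : ℕ) : ZMod m) = ((2 * q : ℕ) : ZMod m) := neg_half hd.hm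
    by_cases hlh : l = ((2 * q : ℕ) : ZMod m)
    · have hneg : -l = l := by rw [hlh, hh]
      rw [hneg] at hc ⊢
      rw [if_pos hlh, if_pos (hc.elim id id)]
      push_cast; ring
    · have hneg : -l ≠ l := fun h => by
        rcases (two_mul_eq_zero_iff hd.hm hd.hq).1 (show 2 * l = 0 by linear_combination -h) with h' | h'
        · exact hl h'
        · exact hlh h'
      rw [if_neg hlh]
      rcases hc with rfl | rfl
      · rw [if_pos rfl, if_neg hneg.symm]; push_cast; ring
      · rw [if_neg hneg, if_pos rfl]; push_cast; ring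
  · rw [not_or] at hc
    rw [if_neg hc.1, if_neg hc.2, add_zero, mul_zero]
    have hself : ∀ k : ZMod m, IsPPart 2 (ι (r k)) (ι (r k)) := fun k =>
      ⟨1, mul_one _, Commute.one_right _, hpow k, by rw [orderOf_one]; decide⟩
    exact block_orthogonality hM (hself l) (hself l')
      (fun h => (rot_isConj hd hl h).elim hc.1 hc.2) isPBlock_principalBlock

theorem rotCoef_gram (hM : IsPModular 2 M) (hd : Data P ι q) (hψ : ψ.IsPrimitive) {i j : ZMod m}
    (hi : i ≠ 0) (hj : j ≠ 0) :
    ∑ χ : IrrCharacter G, (if χ ∈ principalBlock M G then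
        rotCoef ι ψ (χ : G → ℂ) i * conj (rotCoef ι ψ (χ : G → ℂ) j) else 0) =
      ((if i = j then 1 else 0) + (if i = -j then 1 else 0) + 2 : ℂ) := by
  let a : ZMod m → ZMod m → ℂ := fun i l => ψ (-(i * l)) - 1
  have hexp : ∀ χ : IrrCharacter G, (if χ ∈ principalBlock M G then
      rotCoef ι ψ (χ : G → ℂ) i * conj (rotCoef ι ψ (χ : G → ℂ) j) else 0) =
      (m : ℂ)⁻¹ * (m : ℂ)⁻¹ * ∑ l : ZMod m, ∑ l' : ZMod m, a i l * conj (a j l') *
        (if χ ∈ principalBlock M G then (χ : G → ℂ) (ι (r l)) * conj ((χ : G → ℂ) (ι (r l'))) else 0) := by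
    intro χ
    split_ifs
    · simp only [rotCoef, map_mul, map_inv₀, map_natCast, map_sum]
      rw [mul_mul_mul_comm, Finset.sum_mul_sum]
      refine congrArg _ (Finset.sum_congr rfl fun l _ => Finset.sum_congr rfl fun l' _ => ?_)
      simp only [a]; ring
    · simp
  have ha0 : ∀ i, a i 0 = 0 := fun i => by simp [a]
  have hinner : ∀ l l' : ZMod m, (∑ χ : IrrCharacter G, a i l * conj (a j l') *
      (if χ ∈ principalBlock M G then (χ : G → ℂ) (ι (r l)) * conj ((χ : G → ℂ) (ι (r l'))) else 0)) =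
      a i l * conj (a j l') * ((m : ℂ) * ((if l' = l then 1 else 0) + if l' = -l then 1 else 0)) := by
    intro l l'
    rw [← Finset.mul_sum]
    by_cases hl : l = 0
    · simp [hl, ha0]
    by_cases hl' : l' = 0
    · simp [hl', ha0]
    rw [rot_orth hM hd hl hl']
  rw [Finset.sum_congr rfl fun χ _ => hexp χ, ← Finset.mul_sum, Finset.sum_comm,
    Finset.sum_congr rfl fun l _ => Finset.sum_comm,
    Finset.sum_congr rfl fun l _ => Finset.sum_congr rfl fun l' _ => hinner l l']
  simp only [mul_add, mul_ite, mul_one, mul_zero, Finset.sum_add_distrib, Finset.sum_ite_eq', Finset.mem_univ,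
    if_true]
  have hconj : ∀ l, conj (a j l) = ψ (j * l) - 1 := fun l => by
    simp only [a, map_sub, map_one, ← AddChar.map_neg_eq_conj, neg_neg]
  simp only [hconj]
  have e1 : ∀ l, a i l * (ψ (j * l) - 1) =
      ψ (l * (j - i)) - ψ (l * (-i)) - ψ (l * j) + 1 := fun l => by
    simp only [a, sub_mul, mul_sub, one_mul, mul_one, ← AddChar.map_add_eq_mul]
    rw [show -(i * l) + j * l = l * (j - i) by ring, show -(i * l) = l * (-i) by ring, mul_comm j l]
    ring
  have e2 : ∀ l, a i l * (ψ (j * -l) - 1) =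
      ψ (l * (-(j + i))) - ψ (l * (-i)) - ψ (l * (-j)) + 1 := fun l => by
    simp only [a, sub_mul, mul_sub, one_mul, mul_one, ← AddChar.map_add_eq_mul]
    rw [show -(i * l) + j * -l = l * (-(j + i)) by ring, show -(i * l) = l * (-i) by ring,
      show j * -l = l * (-j) by ring]
    ring
  simp only [← Finset.sum_mul, e1, e2, Finset.sum_add_distrib, Finset.sum_sub_distrib, sum_psi_mul hψ,
    Finset.sum_const, Finset.card_univ, ZMod.card, nsmul_eq_mul, mul_one, neg_eq_zero, if_neg hi, if_neg hj,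
    sub_zero]
  have c1 : (j - i = 0) ↔ i = j := by rw [sub_eq_zero]; exact eq_comm
  have c2 : (j + i = 0) ↔ i = -j := by rw [add_eq_zero_iff_eq_neg']
  simp only [c1, c2]
  have hm0 : (m : ℂ) ≠ 0 := m_ne_zero
  split_ifs <;> field_simp <;> ring

/-- The relation on elements of odd order. -/
theorem rotCoef_odd (hM : IsPModular 2 M) (hd : Data P ι q) (j : ZMod m) {ρ : G} (hρ : ¬ 2 ∣ orderOf ρ) :
    ∑ χ : IrrCharacter G, (if χ ∈ principalBlock M G then rotCoef ι ψ (χ : G → ℂ) j * (χ : G → ℂ) ρ else 0) = 0 := by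
  have : Fact (Nat.Prime 2) := ⟨Nat.prime_two⟩
  have key : ∀ l : ZMod m, l ≠ 0 → ∑ χ : IrrCharacter G,
      (if χ ∈ principalBlock M G then (χ : G → ℂ) (ι (r l)) * (χ : G → ℂ) ρ else 0) = 0 := fun l hl => by
    have hpow : ∃ k, orderOf (ι (r l)) = 2 ^ k := by
      obtain ⟨k, hk⟩ := IsPGroup.iff_orderOf.mp P.2 ⟨_, mem_S hd (r l)⟩
      exact ⟨k, by rw [← hk, ← Subgroup.orderOf_coe]⟩
    have h1 : IsPPart 2 (ι (r l)) (ι (r l)) := ⟨1, mul_one _, Commute.one_right _, hpow, by rw [orderOf_one]; decide⟩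
    have h2 : IsPPart 2 ρ⁻¹ 1 := ⟨ρ⁻¹, one_mul _, Commute.one_left _, ⟨0, by rw [pow_zero, orderOf_one]⟩,
      by rwa [orderOf_inv]⟩
    have hne : ¬ IsConj (ι (r l)) 1 := fun h => hl (by
      rw [isConj_one_left, ← map_one ι] at h
      have := hd.inj h
      rw [one_def, r.injEq] at this
      exact this)
    refine Eq.trans (Finset.sum_congr rfl fun χ _ => ?_) (block_orthogonality hM h1 h2 hne isPBlock_principalBlock)
    rw [char_inv (isCharacter_of_isIrr χ.2), Complex.conj_conj]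
  calc _ = (m : ℂ)⁻¹ * ∑ l : ZMod m, (ψ (-(j * l)) - 1) * ∑ χ : IrrCharacter G,
        (if χ ∈ principalBlock M G then (χ : G → ℂ) (ι (r l)) * (χ : G → ℂ) ρ else 0) := by
        simp only [Finset.mul_sum]
        rw [Finset.sum_comm]
        refine Finset.sum_congr rfl fun χ _ => ?_
        split_ifs
        · simp only [rotCoef, Finset.mul_sum, Finset.sum_mul]
          exact Finset.sum_congr rfl fun l _ => by ring
        · simp
    _ = 0 := by
        refine mul_eq_zero_of_right _ (Finset.sum_eq_zero fun l _ => ?_)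
        by_cases hl : l = 0
        · simp [hl]
        · rw [key l hl, mul_zero]

/-- No member of the block vanishes at the central involution. -/
theorem value_zz_ne_zero (hM : IsPModular 2 M) (hd : Data P ι q) {χ : IrrCharacter G}
    (hχ : χ ∈ principalBlock M G) : (χ : G → ℂ) (zz ι q) ≠ 0 := fun h0 => by
  have h := hχ (zz ι q)
  rw [centralChar, centralChar, h0, mul_zero, zero_div, mul_one, div_one, sub_zero] at h
  have h1 : res M (((CJ ι q).index : ℕ) : locRing M) = 0 := by
    rw [res_eq_zero_iff]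
    exact h
  exact P.not_dvd_index (((res_natCast_eq_zero_iff M hM _).mp h1).trans
    (Subgroup.index_dvd_of_le (sylow_le_centralizer hd)))

/-- **The rows**: members, values on rotations, relations. -/
theorem exists_rows (hM : IsPModular 2 M) (hd : Data P ι q) (hψ : ψ.IsPrimitive) :
    ∃ (a b c : IrrCharacter G) (f : Fin (2 * q - 1) → IrrCharacter G) (s t₂ t₃ : ℤ),
      (s = 1 ∨ s = -1) ∧ (t₂ = 1 ∨ t₂ = -1) ∧ (t₃ = 1 ∨ t₃ = -1) ∧
      a ≠ irrOne ∧ b ≠ irrOne ∧ c ≠ irrOne ∧ a ≠ b ∧ a ≠ c ∧ b ≠ c ∧ Function.Injective f ∧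
      (∀ i, f i ≠ irrOne ∧ f i ≠ a ∧ f i ≠ b ∧ f i ≠ c) ∧
      principalBlock M G = {χ | χ = irrOne ∨ χ = a ∨ χ = b ∨ χ = c ∨ ∃ i, χ = f i} ∧
      (∀ l : ZMod m, l ≠ 0 → (a : G → ℂ) (ι (r l)) = -(s : ℂ) ∧
        (b : G → ℂ) (ι (r l)) = (t₂ : ℂ) * ψ (((2 * q : ℕ) : ZMod m) * l) ∧
        (c : G → ℂ) (ι (r l)) = (t₃ : ℂ) * ψ (((2 * q : ℕ) : ZMod m) * l) ∧
        ∀ i : Fin (2 * q - 1), (f i : G → ℂ) (ι (r l)) =
          -(s : ℂ) * (ψ ((((i : ℕ) + 1 : ℕ) : ZMod m) * l) + ψ (-((((i : ℕ) + 1 : ℕ) : ZMod m) * l)))) ∧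
      ∀ ρ : G, ¬ 2 ∣ orderOf ρ → (∀ i, -1 + (s : ℂ) * (a : G → ℂ) ρ - (s : ℂ) * (f i : G → ℂ) ρ = 0) ∧
        -1 + (s : ℂ) * (a : G → ℂ) ρ + (t₂ : ℂ) * (b : G → ℂ) ρ + (t₃ : ℂ) * (c : G → ℂ) ρ = 0 := by
  set one : IrrCharacter G := irrOne with hone
  set h : ZMod m := ((2 * q : ℕ) : ZMod m) with hh
  have hq := hd.hq
  have hm := hd.hm
  have hh0 : h ≠ 0 := half_ne_zero hd.hm hd.hq
  have hnh : -h = h := neg_half hd.hm
  let vv : Fin (2 * q - 1) → ZMod m := fun i => (((i : ℕ) + 1 : ℕ) : ZMod m)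
  have hval : ∀ k : ℕ, k < m → ((k : ZMod m)).val = k := fun k hk => ZMod.val_natCast_of_lt hk
  have hvv0 : ∀ i, vv i ≠ 0 := fun i e => by
    have := congrArg ZMod.val e
    rw [ZMod.val_zero, hval _ (by have := i.2; omega)] at this
    omega
  have hvvh : ∀ i, vv i ≠ h := fun i e => by
    have := congrArg ZMod.val e
    rw [hh, hval _ (by have := i.2; omega), hval _ (by omega)] at this
    have := i.2; omega
  have hvvinj : ∀ i j, vv i = vv j → i = j := fun i j e => by
    have := congrArg ZMod.val e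
    rw [hval _ (by have := i.2; omega), hval _ (by have := j.2; omega)] at this
    exact Fin.ext (by omega)
  have hvvneg : ∀ i j, vv i ≠ -vv j := fun i j e => by
    have e' : (((i : ℕ) + 1 + ((j : ℕ) + 1) : ℕ) : ZMod m) = 0 := by
      rw [Nat.cast_add]; exact eq_neg_iff_add_eq_zero.mp e
    have := congrArg ZMod.val e'
    rw [ZMod.val_zero, hval _ (by have := i.2; have := j.2; omega)] at this
    omega
  have hcover : ∀ j : ZMod m, j ≠ 0 → j = h ∨ ∃ i, j = vv i ∨ j = -vv i := fun j hj => by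
    have h1 : 0 < j.val := Nat.pos_of_ne_zero ((ZMod.val_ne_zero _).mpr hj)
    have h2 := ZMod.val_lt j
    rcases lt_trichotomy j.val (2 * q) with hlt | heq | hgt
    · refine Or.inr ⟨⟨j.val - 1, by omega⟩, Or.inl ?_⟩
      show j = (((j.val - 1) + 1 : ℕ) : ZMod m)
      rw [Nat.sub_add_cancel h1, ZMod.natCast_zmod_val]
    · exact Or.inl (by rw [hh, ← heq, ZMod.natCast_zmod_val])
    · refine Or.inr ⟨⟨m - j.val - 1, by omega⟩, Or.inr ?_⟩
      show j = -(((m - j.val - 1) + 1 : ℕ) : ZMod m)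
      rw [Nat.sub_add_cancel (by omega : 1 ≤ m - j.val), Nat.cast_sub h2.le, ZMod.natCast_self, zero_sub,
        neg_neg, ZMod.natCast_zmod_val]
  choose u hu using fun (χ : IrrCharacter G) (j : ZMod m) => exists_int_rotCoef (ι := ι) (ψ := ψ) χ j
  have hone1 : ∀ j, j ≠ 0 → u one j = -1 := fun j hj => by
    have := (hu one j).symm.trans (rotCoef_irrOne hψ hj)
    exact_mod_cast this
  set S := (Finset.univ.filter (· ∈ principalBlock M G)).erase one with hS
  have hsplit : ∀ F : IrrCharacter G → ℂ,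
      ∑ χ : IrrCharacter G, (if χ ∈ principalBlock M G then F χ else 0) = F one + ∑ χ ∈ S, F χ := fun F => by
    rw [← Finset.sum_filter, hS, Finset.add_sum_erase]
    exact Finset.mem_filter.mpr ⟨Finset.mem_univ _, irrOne_mem_principalBlock⟩
  have hgram : ∀ i j, i ≠ 0 → j ≠ 0 → ∑ χ ∈ S, u χ i * u χ j =
      (if i = j then 1 else 0) + (if i = -j then 1 else 0) + 1 := fun i j hi hj => by
    have hg := rotCoef_gram hM hd hψ hi hj
    rw [hsplit] at hg
    simp only [hu, map_intCast] at hg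
    rw [hone1 i hi, hone1 j hj] at hg
    have : ((∑ χ ∈ S, u χ i * u χ j : ℤ) : ℂ) =
        (((if i = j then 1 else 0) + (if i = -j then 1 else 0) + 1 : ℤ) : ℂ) := by
      push_cast at hg ⊢
      linear_combination hg
    exact_mod_cast this
  have hrel : ∀ j, j ≠ 0 → ∀ ρ, ¬ 2 ∣ orderOf ρ → ∑ χ ∈ S, (u χ j : ℂ) * (χ : G → ℂ) ρ = 1 := fun j hj ρ hρ => by
    have hg := rotCoef_odd (ψ := ψ) hM hd j hρ
    rw [hsplit] at hg
    simp only [hu] at hg
    rw [hone1 j hj, show (one : G → ℂ) ρ = 1 from rfl] at hg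
    push_cast at hg
    linear_combination hg
  let d : IrrCharacter G → ℤ := fun χ => (charDegree (χ : G → ℂ) : ℤ)
  have hdeg : ∀ j, j ≠ 0 → ∑ χ ∈ S, u χ j * d χ = 1 := fun j hj => by
    have h1 := hrel j hj 1 (by rw [orderOf_one]; decide)
    simp only [← CfsgLib.CharBlocks.coe_charDegree_irr] at h1
    have : ((∑ χ ∈ S, u χ j * d χ : ℤ) : ℂ) = ((1 : ℤ) : ℂ) := by
      push_cast [d]; exact h1
    exact_mod_cast this
  obtain ⟨a, haS, b, hbS, c, hcS, f, s, t₂, t₃, hs, ht₂, ht₃, hab, hac, hbc, hfinj, hf, hv, hw⟩ :=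
    sunflower S (m := 2 * q - 1) ⟨q - 1, by omega⟩ (fun i χ => u χ (vv i)) (fun χ => u χ h)
      (fun i j => by
        rw [hgram _ _ (hvv0 i) (hvv0 j), if_neg (hvvneg i j)]
        by_cases hij : i = j
        · subst hij; simp
        · rw [if_neg (fun e => hij (hvvinj i j e)), if_neg hij]; norm_num)
      (fun i => by
        rw [hgram _ _ (hvv0 i) hh0, hnh, if_neg (hvvh i)]; norm_num)
      (by rw [hgram _ _ hh0 hh0, hnh, if_pos rfl]; norm_num)
      d (fun χ _ => by have := CfsgLib.CharBlocks.charDegree_pos χ.2; simp only [d]; omega)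
      (fun i => hdeg _ (hvv0 i)) (hdeg h hh0)
  have hmemS : ∀ χ, χ ∈ S ↔ χ ≠ one ∧ χ ∈ principalBlock M G := fun χ => by simp [hS]
  have hne1 : ∀ χ ∈ S, χ ≠ one := fun χ hχ => ((hmemS χ).mp hχ).1
  have hu0 : ∀ χ : IrrCharacter G, u χ 0 = 0 := fun χ => by
    have : rotCoef ι ψ (χ : G → ℂ) 0 = 0 := by simp [rotCoef]
    exact_mod_cast (hu χ 0).symm.trans this
  have huneg : ∀ χ : IrrCharacter G, ∀ j, u χ (-j) = u χ j := fun χ j => by
    have := (hu χ (-j)).symm.trans ((rotCoef_neg χ j).trans (hu χ j))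
    exact_mod_cast this
  have hall : ∀ χ ∈ S, ∀ j, u χ j = if j = 0 then 0 else
      if χ = a then s else
        if j = h then (if χ = b then t₂ else if χ = c then t₃ else 0)
        else if ∃ i, (j = vv i ∨ j = -vv i) ∧ χ = f i then -s else 0 := by
    intro χ hχ j
    by_cases hj : j = 0
    · rw [if_pos hj, hj, hu0]
    rw [if_neg hj]
    rcases hcover j hj with rfl | ⟨i, hi⟩
    · rw [hw χ hχ, if_pos rfl]
      split_ifs <;> rfl
    · have hjh : j ≠ h := by
        rcases hi with rfl | rfl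
        · exact hvvh i
        · exact fun e => hvvh i (by rw [← neg_neg (vv i), e, hnh])
      have huj : u χ j = u χ (vv i) := by
        rcases hi with rfl | rfl
        · rfl
        · exact huneg χ _
      rw [huj, hv i χ hχ, if_neg hjh]
      by_cases hχa : χ = a
      · rw [if_pos hχa, if_pos hχa]
      rw [if_neg hχa, if_neg hχa]
      by_cases hχi : χ = f i
      · rw [if_pos hχi, if_pos ⟨i, hi, hχi⟩]
      · rw [if_neg hχi, if_neg]
        rintro ⟨k, hk, hχk⟩
        apply hχi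
        suffices k = i from this ▸ hχk
        rcases hi with rfl | rfl <;> rcases hk with e | e
        · exact (hvvinj _ _ e).symm
        · exact absurd e (hvvneg i k)
        · exact absurd (show vv k = -vv i from e.symm) (hvvneg k i)
        · exact (hvvinj _ _ (neg_inj.mp e)).symm
  have hvalue : ∀ χ ∈ S, ∀ l, l ≠ 0 → (χ : G → ℂ) (ι (r l)) = ∑ j : ZMod m, (u χ j : ℂ) * ψ (j * l) :=
    fun χ _ l hl => by rw [rot_value (ι := ι) hψ (χ : G → ℂ) hl]; simp only [hu]
  refine ⟨a, b, c, f, s, t₂, t₃, hs, ht₂, ht₃, hne1 a haS, hne1 b hbS, hne1 c hcS, hab, hac, hbc, hfinj,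
    fun i => ⟨hne1 _ (hf i).1, (hf i).2⟩, ?_, ?_, ?_⟩
  · ext χ
    simp only [Set.mem_setOf_eq]
    constructor
    · intro hχ
      by_cases h1 : χ = one
      · exact Or.inl h1
      have hχS := (hmemS χ).mpr ⟨h1, hχ⟩
      by_contra hno
      push Not at hno
      obtain ⟨-, h2, h3, h4, h5⟩ := hno
      refine value_zz_ne_zero hM hd hχ ?_
      show (χ : G → ℂ) (ι (r h)) = 0
      rw [hvalue χ hχS h hh0]
      refine Finset.sum_eq_zero fun j _ => ?_
      have hz : u χ j = 0 := by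
        rw [hall χ hχS, if_neg h2, if_neg h3, if_neg h4]
        split_ifs with e1 e2 e3 <;> first | rfl | exact absurd e3.choose_spec.2 (h5 _)
      simp [hz]
    · intro hχ
      rcases hχ with rfl | rfl | rfl | rfl | ⟨i, rfl⟩
      · exact irrOne_mem_principalBlock
      · exact ((hmemS _).mp haS).2
      · exact ((hmemS _).mp hbS).2
      · exact ((hmemS _).mp hcS).2
      · exact ((hmemS _).mp (hf i).1).2
  · intro l hl
    have hsum1 : ∑ j : ZMod m, ψ (j * l) = 0 := by rw [sum_psi_mul hψ, if_neg hl]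
    have hbc' : ∀ χ ∈ S, χ ≠ a → (∀ i, χ ≠ f i) →
        (χ : G → ℂ) (ι (r l)) = ((if χ = b then t₂ else if χ = c then t₃ else 0 : ℤ) : ℂ) * ψ (h * l) := by
      intro χ hχ hχa hχf
      rw [hvalue χ hχ l hl, Finset.sum_eq_single h]
      · rw [hall χ hχ, if_neg hh0, if_neg hχa, if_pos rfl]
      · intro j _ hj
        rw [hall χ hχ]
        by_cases hj0 : j = 0
        · simp [hj0]
        · rw [if_neg hj0, if_neg hχa, if_neg hj, if_neg fun ⟨i, _, e⟩ => hχf i e]
          simp
      · simp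
    refine ⟨?_, ?_, ?_, fun i => ?_⟩
    · rw [hvalue a haS l hl]
      have hsum2 := hsum1
      rw [← Finset.add_sum_erase _ _ (Finset.mem_univ (0 : ZMod m)), zero_mul, AddChar.map_zero_eq_one] at hsum2
      rw [← Finset.add_sum_erase _ _ (Finset.mem_univ (0 : ZMod m)), hu0 a, Int.cast_zero, zero_mul, zero_add,
        Finset.sum_congr rfl fun j hj => by rw [hall a haS, if_neg (Finset.ne_of_mem_erase hj), if_pos rfl],
        ← Finset.mul_sum]
      linear_combination (s : ℂ) * hsum2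
    · rw [hbc' b hbS (Ne.symm hab) (fun i e => (hf i).2.2.1 e.symm), if_pos rfl]
    · rw [hbc' c hcS (Ne.symm hac) (fun i e => (hf i).2.2.2 e.symm), if_neg (Ne.symm hbc), if_pos rfl]
    · have hcond : ∀ j, u (f i) j = if j = vv i ∨ j = -vv i then -s else 0 := fun j => by
        rw [hall _ (hf i).1]
        by_cases hj : j = 0
        · rw [if_pos hj, if_neg]
          rintro (e | e)
          · exact hvv0 i (hj ▸ e.symm)
          · exact hvv0 i (neg_eq_zero.mp (hj ▸ e.symm))
        rw [if_neg hj, if_neg (hf i).2.1]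
        by_cases hjh : j = h
        · rw [if_pos hjh, if_neg (hf i).2.2.1, if_neg (hf i).2.2.2, if_neg]
          rintro (e | e)
          · exact hvvh i (e ▸ hjh)
          · exact hvvh i (by rw [← neg_neg (vv i), ← e, hjh, hnh])
        rw [if_neg hjh]
        by_cases he : j = vv i ∨ j = -vv i
        · rw [if_pos he, if_pos ⟨i, he, rfl⟩]
        · rw [if_neg he, if_neg]
          rintro ⟨k, hk, e⟩
          exact he (hfinj e ▸ hk)
      rw [hvalue _ (hf i).1 l hl, ← Finset.sum_subset (Finset.subset_univ {vv i, -vv i}) (fun j _ hj => by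
        rw [hcond, if_neg (by simpa using hj)]; simp), Finset.sum_pair (hvvneg i i), hcond, hcond,
        if_pos (Or.inl rfl), if_pos (Or.inr rfl), neg_mul (vv i) l]
      simp only [vv]; push_cast; ring
  · intro ρ hρ
    refine ⟨fun i => ?_, ?_⟩
    · have h1 := hrel _ (hvv0 i) ρ hρ
      rw [← Finset.sum_subset (s₁ := {a, f i}) (by
          intro x hx
          rcases Finset.mem_insert.mp hx with rfl | hx
          · exact haS
          · rw [Finset.mem_singleton.mp hx]; exact (hf i).1)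
        (fun x hx hxn => by
          simp only [Finset.mem_insert, Finset.mem_singleton, not_or] at hxn
          rw [hv i x hx, if_neg hxn.1, if_neg hxn.2]; simp),
        Finset.sum_pair (Ne.symm (hf i).2.1), hv i a haS, hv i _ (hf i).1, if_pos rfl, if_neg (hf i).2.1,
        if_pos rfl] at h1
      push_cast at h1
      linear_combination h1
    · have h1 := hrel _ hh0 ρ hρ
      rw [← Finset.sum_subset (s₁ := {a, b, c}) (by
          intro x hx
          simp only [Finset.mem_insert, Finset.mem_singleton] at hx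
          rcases hx with rfl | rfl | rfl
          · exact haS
          · exact hbS
          · exact hcS)
        (fun x hx hxn => by
          simp only [Finset.mem_insert, Finset.mem_singleton, not_or] at hxn
          rw [hw x hx, if_neg hxn.1, if_neg hxn.2.1, if_neg hxn.2.2]; simp),
        Finset.sum_insert (by simp [hab, hac]), Finset.sum_pair hbc, hw a haS, hw b hbS, hw c hcS, if_pos rfl,
        if_neg (Ne.symm hab), if_pos rfl, if_neg (Ne.symm hac), if_neg (Ne.symm hbc), if_pos rfl] at h1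
      linear_combination h1

end CfsgLib.Blocks.DihBlock
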